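import Groth.Agent.Pn71.Laurent
import Mathlib.RingTheory.MvPolynomial.Homogeneous
import Mathlib.RingTheory.Finiteness.Basic

/-! Laurent monomial spaces as spaces of homogeneous polynomials. -/

set_option maxSynthPendingDepth 6

noncomputable section

namespace Groth.Agent.Pn71

variable {ι : Type*} [Fintype ι] (A : Type*) [CommRing A]

/-- Finitely supported functions on a set of degree-`k` monomials vs homogeneous polynomials. -/
def homogEquiv (k : ℕ) (S : Set (ι →₀ ℤ)) (e : S ≃ {m : ι →₀ ℕ | m.degree = k}) :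
    Finsupp.supported A A S ≃ₗ[A] MvPolynomial.homogeneousSubmodule ι A k :=
  (Finsupp.congr S _ e).trans
    (((AddMonoidAlgebra.supportedEquivFinsupp _).trans (Finsupp.supportedEquivFinsupp _).symm).symm.trans
      (LinearEquiv.ofEq _ _ (MvPolynomial.homogeneousSubmodule_eq_finsupp_supported ι A k).symm))

/-- Monomials without poles of degree `k`. -/
def posCellEquiv (k : ℕ) : posCell (ι := ι) (k : ℤ) ≃ {m : ι →₀ ℕ | m.degree = k} where
  toFun m := ⟨m.1.mapRange Int.toNat rfl, by
    have h := m.2.1
    rw [deg] at h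
    simp only [Set.mem_ofPred_eq, Finsupp.degree_eq_sum, Finsupp.mapRange_apply]
    have h2 : ((∑ i, (m.1 i).toNat : ℕ) : ℤ) = k := by
      push_cast
      exact Eq.trans (Finset.sum_congr rfl fun i _ => Int.toNat_of_nonneg (m.2.2 i)) h
    exact_mod_cast h2⟩
  invFun m := ⟨m.1.mapRange (Nat.cast : ℕ → ℤ) rfl, by
    have h := m.2
    simp only [Set.mem_ofPred_eq, Finsupp.degree_eq_sum] at h
    exact ⟨by simp only [deg, Finsupp.mapRange_apply]; exact_mod_cast h, fun i => by simp⟩⟩
  left_inv m := Subtype.ext <| Finsupp.ext fun i => by simp [m.2.2 i]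
  right_inv m := Subtype.ext <| Finsupp.ext fun i => by simp

/-- Monomials with poles everywhere of degree `-(k + card ι)`. -/
def negCellEquiv (k : ℕ) :
    negCell (ι := ι) (-((k : ℤ) + Fintype.card ι)) ≃ {m : ι →₀ ℕ | m.degree = k} where
  toFun m := ⟨Finsupp.equivFunOnFinite.symm fun i => (-(m.1 i) - 1).toNat, by
    have h := m.2.1
    rw [deg] at h
    simp only [Set.mem_ofPred_eq, Finsupp.degree_eq_sum, Finsupp.coe_equivFunOnFinite_symm]
    have h2 : ((∑ i, (-(m.1 i) - 1).toNat : ℕ) : ℤ) = k := by
      push_cast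
      rw [Finset.sum_congr rfl fun i _ => Int.toNat_of_nonneg
        (show 0 ≤ -(m.1 i) - 1 by have := m.2.2 i; omega)]
      simp [h]
    exact_mod_cast h2⟩
  invFun m := ⟨Finsupp.equivFunOnFinite.symm fun i => -((m.1 i : ℤ) + 1), by
    have h := m.2
    simp only [Set.mem_ofPred_eq, Finsupp.degree_eq_sum] at h
    refine ⟨?_, fun i => by simp; omega⟩
    simp only [deg, Finsupp.coe_equivFunOnFinite_symm, ← h]
    simp [Finset.sum_add_distrib]⟩
  left_inv m := Subtype.ext <| Finsupp.ext fun i => by
    have := m.2.2 i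
    simp; omega
  right_inv m := Subtype.ext <| Finsupp.ext fun i => by simp

lemma posCell_eq_empty {d : ℤ} (hd : d < 0) : posCell (ι := ι) d = ∅ :=
  Set.eq_empty_of_forall_notMem fun m hm => by
    have : 0 ≤ deg m := Finset.sum_nonneg fun i _ => hm.2 i
    have := hm.1
    omega

lemma negCell_eq_empty {d : ℤ} (hd : -(Fintype.card ι : ℤ) < d) : negCell (ι := ι) d = ∅ :=
  Set.eq_empty_of_forall_notMem fun m hm => by
    have : deg m ≤ ∑ _i : ι, (-1 : ℤ) :=
      Finset.sum_le_sum fun i _ => by have := hm.2 i; omega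
    simp at this
    have := hm.1
    omega

lemma finite_supported {S : Set (ι →₀ ℤ)} (hS : S.Finite) :
    Module.Finite A (Finsupp.supported A A S) := by
  have := hS.to_subtype
  have : Module.Finite A (S →₀ A) := Module.Finite.equiv (Finsupp.linearEquivFunOnFinite A A S).symm
  exact Module.Finite.equiv (Finsupp.supportedEquivFinsupp (M := A) (R := A) S).symm

end Groth.Agent.Pn71
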