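import Groth.Agent.Pn71.CechTwist
import Groth.Agent.Pn71.Monomials
import Groth.Prelude.Def_CohB1

/-! Čech cohomology of `O(d)` on the standard cover of projective space. -/

open CategoryTheory Limits AlgebraicGeometry TopologicalSpace Opposite

universe u

set_option maxSynthPendingDepth 6
set_option maxHeartbeats 400000
set_option synthInstance.maxHeartbeats 100000

noncomputable section

namespace Groth.Agent.Pn71

section General

variable {X : TopCat.{u}} {ι : Type u} (U : ι → Opens X) (P : (Opens X)ᵒᵖ ⥤ AddCommGrpCat.{u})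
variable {T : Type u} [AddCommGroup T]

/-- Positive-degree Čech cohomology from a map out of cocycles. -/
def cechHEquivOfKer (q : ℕ) (Φ : (Coh69.cd U P (q + 1)).ker →+ T) (hΦ : Function.Surjective Φ)
    (hker : ∀ z : (Coh69.cd U P (q + 1)).ker, Φ z = 0 ↔ ∃ b, Coh69.cd U P q b = z.1) :
    CohTop.cechH P U (q + 1) ≃+ T := by
  let K := (cechComplexFunctor U).obj P
  let S := K.sc' q (q + 1) (q + 2)
  let e : S.g.hom.ker →+ (Coh69.cd U P (q + 1)).ker :=
    { toFun x := ⟨Coh69.cechEquiv U P (q + 1) x.1, by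
        rw [AddMonoidHom.mem_ker]
        exact (Coh69.cechEquiv_d U P (q + 1) x.1).symm.trans
          ((congrArg (Coh69.cechEquiv U P (q + 2)) x.2).trans (map_zero _))⟩
      map_zero' := Subtype.ext (map_zero _)
      map_add' := fun x y => Subtype.ext (map_add (Coh69.cechEquiv U P (q + 1)) x.1 y.1) }
  have he : Function.Surjective (Φ.comp e) := by
    refine hΦ.comp fun z => ?_
    refine ⟨⟨(Coh69.cechEquiv U P (q + 1)).symm z.1, ?_⟩, Subtype.ext (AddEquiv.apply_symm_apply _ _)⟩
    refine (Coh69.cechEquiv U P (q + 2)).injective ?_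
    refine (Coh69.cechEquiv_d U P (q + 1) _).trans ?_
    rw [AddEquiv.apply_symm_apply]
    exact z.2.trans (map_zero (Coh69.cechEquiv U P (q + 2))).symm
  have hk : S.abToCycles.range = (Φ.comp e).ker := by
    ext x
    rw [AddMonoidHom.mem_ker, AddMonoidHom.comp_apply, hker, AddMonoidHom.mem_range]
    constructor
    · rintro ⟨b, rfl⟩
      exact ⟨Coh69.cechEquiv U P q b, (Coh69.cechEquiv_d U P q b).symm⟩
    · rintro ⟨b, hb⟩
      obtain ⟨b', rfl⟩ := (Coh69.cechEquiv U P q).surjective b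
      refine ⟨b', Subtype.ext ((Coh69.cechEquiv U P (q + 1)).injective ?_)⟩
      exact (Coh69.cechEquiv_d U P q b').trans hb
  exact ((K.homologyIsoSc' q (q + 1) (q + 2) (by simp) (by simp)).trans
      S.abHomologyIso).addCommGroupIsoToAddEquiv.trans
    ((QuotientAddGroup.quotientAddEquivOfEq hk).trans
      (QuotientAddGroup.quotientKerEquivOfSurjective (Φ.comp e) he))

/-- Degree-zero Čech cohomology from a map out of cocycles. -/
def cechH0EquivOfKer (Φ : (Coh69.cd U P 0).ker ≃+ T) : CohTop.cechH P U 0 ≃+ T := by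
  let K := (cechComplexFunctor U).obj P
  let S := K.sc' 0 0 1
  let e : S.g.hom.ker →+ T :=
    Φ.toAddMonoidHom.comp
    { toFun x := ⟨Coh69.cechEquiv U P 0 x.1, by
        rw [AddMonoidHom.mem_ker]
        exact (Coh69.cechEquiv_d U P 0 x.1).symm.trans
          ((congrArg (Coh69.cechEquiv U P 1) x.2).trans (map_zero _))⟩
      map_zero' := Subtype.ext (map_zero _)
      map_add' := fun x y => Subtype.ext (map_add (Coh69.cechEquiv U P 0) x.1 y.1) }
  have he : Function.Surjective e := by
    refine Φ.surjective.comp fun z => ?_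
    refine ⟨⟨(Coh69.cechEquiv U P 0).symm z.1, ?_⟩, Subtype.ext (AddEquiv.apply_symm_apply _ _)⟩
    refine (Coh69.cechEquiv U P 1).injective ?_
    refine (Coh69.cechEquiv_d U P 0 _).trans ?_
    rw [AddEquiv.apply_symm_apply]
    exact z.2.trans (map_zero (Coh69.cechEquiv U P 1)).symm
  have hk : S.abToCycles.range = e.ker := by
    ext x
    rw [AddMonoidHom.mem_ker, AddMonoidHom.mem_range]
    constructor
    · rintro ⟨b, rfl⟩
      have hf : (S.f : S.X₁ ⟶ S.X₂) = 0 := K.shape 0 0 (by simp)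
      have : S.abToCycles b = 0 := Subtype.ext (by
        change S.f.hom b = 0
        rw [hf]; rfl)
      rw [this, map_zero]
    · intro hx
      refine ⟨0, ?_⟩
      rw [map_zero]
      have h1 := Φ.map_eq_zero_iff.1 hx
      refine Subtype.ext ((Coh69.cechEquiv U P 0).injective ?_)
      exact (map_zero (Coh69.cechEquiv U P 0)).trans (congrArg Subtype.val h1).symm
  exact ((K.homologyIsoSc' 0 0 1 (by simp) (by simp)).trans
      S.abHomologyIso).addCommGroupIsoToAddEquiv.trans
    ((QuotientAddGroup.quotientAddEquivOfEq hk).trans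
      (QuotientAddGroup.quotientKerEquivOfSurjective e he))

end General

variable (n : ℕ) (A : Type u) [CommRing A] (d : ℤ)

/-- Coordinates of cocycles. -/
def cocycleEquiv (p : ℕ) :
    (Coh69.cd (stdU n A) (twP n A d) p).ker ≃+ cocycles A (Fin (n + 1)) d p where
  toFun c := ⟨(cochainEquiv n A d p c.1).1, (cd_eq_zero_iff n A d c.1).1 c.2⟩
  invFun z := ⟨(cochainEquiv n A d p).symm ⟨z.1, z.2.1⟩, (cd_eq_zero_iff n A d _).2 (by
    rw [AddEquiv.apply_symm_apply]; exact z.2)⟩
  left_inv c := Subtype.ext ((cochainEquiv n A d p).symm_apply_apply c.1)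
  right_inv z := Subtype.ext (show (cochainEquiv n A d p _).1 = z.1 from congrArg Subtype.val
    ((cochainEquiv n A d p).apply_symm_apply ⟨z.1, z.2.1⟩))
  map_add' c c' := Subtype.ext (show (cochainEquiv n A d p (c.1 + c'.1)).1 =
    (cochainEquiv n A d p c.1).1 + (cochainEquiv n A d p c'.1).1 by rw [map_add, Submodule.coe_add])

theorem cechH_subsingleton_of_lt (p : ℕ) (hp0 : 0 < p) (hp : p < n) :
    Subsingleton (CohB1.cechH (stdU n A) (Twist.twistProjSpace n A d) p) := by
  obtain ⟨q, rfl⟩ : ∃ q, p = q + 1 := ⟨p - 1, by omega⟩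
  exact (cechHEquivOfKer (stdU n A) (twP n A d) q (T := PUnit.{u + 1}) 0
    (fun x => ⟨0, Subsingleton.elim _ _⟩)
    (fun z => ⟨fun _ => cd_exact_of_lt n A d hp z.1 z.2, fun _ => rfl⟩)).toEquiv.subsingleton

/-- `Ȟ⁰` of `O(d)` for `1 ≤ n`. -/
def cechH0Equiv (hn : 1 ≤ n) :
    CohB1.cechH (stdU n A) (Twist.twistProjSpace n A d) 0 ≃+
      Finsupp.supported A A (posCell (ι := Fin (n + 1)) d) :=
  have : Nontrivial (Fin (n + 1)) := Fin.nontrivial_iff_two_le.2 (by omega)
  cechH0EquivOfKer (stdU n A) (twP n A d)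
    ((cocycleEquiv n A d 0).trans (zeroEquiv A d (0 : Fin (n + 1))).toAddEquiv)

/-- `Ȟⁿ` of `O(d)` for `1 ≤ n`. -/
def cechHTopEquiv (q : ℕ) :
    CohB1.cechH (stdU (q + 1) A) (Twist.twistProjSpace (q + 1) A d) (q + 1) ≃+
      Finsupp.supported A A (negCell (ι := Fin (q + 2)) d) :=
  cechHEquivOfKer (stdU (q + 1) A) (twP (q + 1) A d) q
    ((topEval A d (Equiv.refl (Fin (q + 2)))).toAddMonoidHom.comp
      (cocycleEquiv (q + 1) A d (q + 1)).toAddMonoidHom)
    ((topEval_surjective (Equiv.refl _)).comp (cocycleEquiv (q + 1) A d (q + 1)).surjective)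
    (fun z => by
      rw [exists_cd_eq_iff]
      have h := SetLike.ext_iff.1 (ker_topEval (A := A) (d := d) (Equiv.refl (Fin (q + 2)))
        (fun h => absurd h (Nat.succ_ne_zero q))) (cocycleEquiv (q + 1) A d (q + 1) z)
      simpa [cocycleEquiv] using h)

end Groth.Agent.Pn71
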