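import Groth.Agent.Pn71.Laurent

/-! Exactness of the Laurent Čech complex above the dimension. -/

namespace Groth.Agent.Pn71

variable {ι : Type*}

/-- The coboundary squares to zero. -/
theorem dd_dd {V : Type*} [AddCommGroup V] : ∀ {p : ℕ} (c : (Fin (p + 1) → ι) → V),
    dd (dd c) = 0 := by
  intro p
  induction p with
  | zero =>
    intro c
    funext σ
    rw [← Fin.cons_self_tail σ, Pi.zero_apply]
    set j := σ 0
    let C : (Fin 1 → ι) → V := fun τ => dd c (Fin.cons j τ)
    have hC : C = c - fun _ => c ![j] := funext fun τ => by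
      have hτ : τ = ![τ 0] := by ext i; fin_cases i; rfl
      rw [hτ]
      exact dd_zero_apply c j (τ 0)
    have h := dd_cone_add j (dd c) (Fin.tail σ)
    have hconst : dd (fun _ : Fin 1 → ι => c ![j]) (Fin.tail σ) = 0 := by
      simp [dd, Fin.sum_univ_two]
    change dd C _ + _ = _ at h
    rw [hC, dd_sub, Pi.sub_apply, hconst, sub_zero, add_eq_left] at h
    exact h
  | succ p ih =>
    intro c
    funext σ
    rw [← Fin.cons_self_tail σ, Pi.zero_apply]
    set j := σ 0
    let C : (Fin (p + 1) → ι) → V := fun τ => c (Fin.cons j τ)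
    have hC : (fun τ : Fin (p + 2) → ι => dd c (Fin.cons j τ)) = c - dd C :=
      funext fun τ => eq_sub_of_add_eq' (dd_cone_add j c τ)
    have h := dd_cone_add j (dd c) (Fin.tail σ)
    rw [hC, dd_sub, ih C, sub_zero, add_eq_left] at h
    exact h

/-- Cocycles relative to the boundary are coboundaries above the top degree. -/
theorem exists_dd_eq_rel {V : Type*} [AddCommGroup V] : ∀ (p : ℕ) (ι : Type) [Fintype ι],
    Fintype.card ι ≤ p + 1 → ∀ (f : (Fin (p + 2) → ι) → V),
    (∀ σ, ¬ Function.Surjective σ → f σ = 0) → dd f = 0 →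
    ∃ g : (Fin (p + 1) → ι) → V, (∀ σ, ¬ Function.Surjective σ → g σ = 0) ∧ dd g = f := by
  classical
  intro p
  induction p with
  | zero =>
    intro ι _ hc f hf hd
    rcases isEmpty_or_nonempty ι with hι | ⟨⟨j⟩⟩
    · exact ⟨0, fun _ _ => rfl, funext fun τ => (IsEmpty.false (τ 0)).elim⟩
    have : Subsingleton ι := Fintype.card_le_one_iff_subsingleton.1 hc
    refine ⟨fun τ => f (Fin.cons j τ), fun σ hσ => absurd (fun x => ⟨0, Subsingleton.elim _ _⟩) hσ, ?_⟩
    funext σ
    have := dd_cone_add j f σ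
    rwa [hd, Pi.zero_apply, add_zero] at this
  | succ p ih =>
    intro ι _ hc f hf hd
    rcases isEmpty_or_nonempty ι with hι | ⟨⟨j⟩⟩
    · exact ⟨0, fun _ _ => rfl, funext fun τ => (IsEmpty.false (τ 0)).elim⟩
    let g₀ : (Fin (p + 2) → ι) → V := fun τ => f (Fin.cons j τ)
    have hg₀ : dd g₀ = f := funext fun σ => by
      have := dd_cone_add j f σ
      rwa [hd, Pi.zero_apply, add_zero] at this
    have hg₀' : ∀ σ (i : ι), i ≠ j → (∀ a, σ a ≠ i) → g₀ σ = 0 := by
      refine fun σ i hi hσ => hf _ fun hs => ?_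
      obtain ⟨a, ha⟩ := hs i
      cases a using Fin.cases with
      | zero => exact hi (by simpa using ha.symm)
      | succ a => exact hσ a (by simpa using ha)
    obtain ⟨k, hk, hkh⟩ := ih {x : ι // x ≠ j} (by
        rw [Fintype.card_subtype_compl, Fintype.card_subtype_eq]; omega)
      (fun σ => g₀ (Subtype.val ∘ σ)) (fun σ hσ => by
        simp only [Function.Surjective] at hσ
        push Not at hσ
        obtain ⟨⟨i, hi⟩, hia⟩ := hσ
        exact hg₀' _ i hi fun a ha => hia a (Subtype.ext ha))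
      (funext fun τ => by
        have : dd g₀ (Subtype.val ∘ τ) = 0 := by
          rw [hg₀]
          refine hf _ fun hs => ?_
          obtain ⟨a, ha⟩ := hs j
          exact (τ a).2 ha
        exact this)
    let k' : (Fin (p + 1) → ι) → V := fun σ =>
      if h : ∀ a, σ a ≠ j then k fun a => ⟨σ a, h a⟩ else 0
    have hdd : dd (dd k') = (0 : (Fin (p + 3) → ι) → V) := dd_dd k'
    refine ⟨g₀ - dd k', fun σ hσ => ?_, by rw [dd_sub, hdd, hg₀, sub_zero]⟩
    by_cases hj : ∀ a, σ a ≠ j
    · have h1 : dd k' σ = dd k (fun a => ⟨σ a, hj a⟩) :=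
        Finset.sum_congr rfl fun i _ => congrArg _ (dif_pos fun a => hj _)
      rw [Pi.sub_apply, h1, hkh]
      exact sub_self _
    · simp only [Function.Surjective] at hσ
      push Not at hσ hj
      obtain ⟨i, hi⟩ := hσ
      obtain ⟨a₀, ha₀⟩ := hj
      have hij : i ≠ j := fun h => hi a₀ (h ▸ ha₀)
      have h1 : dd k' σ = 0 := Finset.sum_eq_zero fun b _ => by
        simp only [k']
        split_ifs with h
        · rw [hk _ fun hs => ?_, smul_zero]
          obtain ⟨a, ha⟩ := hs ⟨i, hij⟩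
          exact hi _ (congrArg Subtype.val ha)
        · exact smul_zero _
      rw [Pi.sub_apply, hg₀' σ i hij hi, h1, sub_zero]

variable {A : Type*} [CommRing A]

open Classical in
/-- Exactness above the dimension. -/
theorem exists_dd_eq_of_card_le {ι : Type} [Fintype ι] {d : ℤ} {p : ℕ}
    (hp : Fintype.card ι ≤ p + 1) (c : (Fin (p + 2) → ι) → (ι →₀ ℤ) →₀ A)
    (hc : c ∈ Cochain A ι d (p + 1)) (hd : dd c = 0) :
    ∃ b ∈ Cochain A ι d p, dd b = c := by
  let F : ((ι →₀ ℤ) →₀ A) →+ ((ι →₀ ℤ) →₀ A) := Finsupp.filterAddHom (· ∈ negCell (ι := ι) d)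
  have hF : ∀ v m, F v m = if m ∈ negCell (ι := ι) d then v m else 0 := fun v m =>
    Finsupp.filter_apply _ _ _
  have hc' := mem_cochain.1 hc
  have hdF : dd (fun σ => F (c σ)) = 0 := funext fun τ => by
    rw [← map_dd, hd, Pi.zero_apply, map_zero]
  obtain ⟨g, hg, hgc⟩ := exists_dd_eq_rel p ι hp (fun σ => F (c σ)) (fun σ hs => Finsupp.ext fun m => by
    rw [hF, Finsupp.zero_apply]
    split_ifs with h
    · exact by_contra fun hne => hs fun i => (hc' σ m hne).2 i (h.2 i)
    · rfl) hdF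
  let b₁ : (Fin (p + 1) → ι) → (ι →₀ ℤ) →₀ A := fun σ => F (g σ)
  have hb₁ : b₁ ∈ Cochain A ι d p := mem_cochain.2 fun σ m hne => by
    simp only [b₁, hF] at hne
    split_ifs at hne with h
    · refine ⟨h.1, fun i _ => ?_⟩
      by_contra hi
      exact hne (by rw [hg σ fun hs => hi (hs i)]; rfl)
    · exact absurd rfl hne
  have hb₁c : ∀ τ m, (∀ i, m i < 0) → dd b₁ τ m = c τ m := fun τ m hm => by
    have h1 : dd b₁ τ = F (c τ) := by
      rw [show dd b₁ τ = F (dd g τ) from (map_dd F g τ).symm, hgc]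
      ext m'; simp only [hF]; split_ifs <;> rfl
    rw [h1, hF]
    split_ifs with h
    · rfl
    · exact (by_contra fun hne => h ⟨(hc' τ m fun e => hne e.symm).1, hm⟩)
  have hmem : c - dd b₁ ∈ Cochain A ι d (p + 1) :=
    Submodule.sub_mem _ hc (dd_mem_cochain hb₁)
  obtain ⟨b₂, hb₂, hb₂c⟩ := exists_dd_eq (c - dd b₁) hmem (by
      rw [dd_sub, hd, dd_dd, sub_zero]) (fun σ m hm => by
      rw [Pi.sub_apply, Finsupp.sub_apply, hb₁c σ m hm, sub_self])
  refine ⟨b₁ + b₂, Submodule.add_mem _ hb₁ hb₂, ?_⟩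
  have : dd (b₁ + b₂) - dd b₁ = dd b₂ := by rw [← dd_sub, add_sub_cancel_left]
  rw [hb₂c] at this
  exact sub_left_injective this

end Groth.Agent.Pn71
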