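import Groth.Agent.CechComp71.Scheme
import Groth.Agent.Pn71.CechH
import Groth.Agent.Pn71.Above
import Groth.Agent.EGA73.TildeQCoh

/-! Sheaf cohomology of `O(d)` on projective space. -/

open CategoryTheory Limits AlgebraicGeometry TopologicalSpace Opposite

universe u

set_option maxSynthPendingDepth 6
set_option maxHeartbeats 400000
set_option synthInstance.maxHeartbeats 100000

noncomputable section

namespace Groth.Agent.Pn71

variable (n : ℕ) (A : Type u) [CommRing A]

lemma iSup_stdU : ⨆ i, stdU n A i = ⊤ := by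
  refine Proj.iSup_basicOpen_eq_top' (CohB1.polyGrading n A)
    (fun i : ULift.{u} (Fin (n + 1)) => MvPolynomial.X i.down)
    (fun i => ⟨1, MvPolynomial.isHomogeneous_X A _⟩) (top_le_iff.1 ?_)
  intro x hx
  clear hx
  induction x using MvPolynomial.induction_on with
  | C a =>
    exact Subalgebra.algebraMap_mem _
      (⟨MvPolynomial.C a, MvPolynomial.isHomogeneous_C _ a⟩ : CohB1.polyGrading n A 0)
  | add f g hf hg => exact add_mem hf hg
  | mul_X f i hf => exact mul_mem hf (Algebra.subset_adjoin ⟨ULift.up i, rfl⟩)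

lemma isAffineOpen_cOpen_stdU {p : ℕ} (i : Fin (p + 1) → ULift.{u} (Fin (n + 1))) :
    IsAffineOpen (Coh69.cOpen (stdU n A) i) := by
  have hi : i = up (ULift.down ∘ i) := rfl
  rw [hi, cOpen_stdU]
  exact Proj.isAffineOpen_basicOpen (CohB1.polyGrading n A) _ (mon_mem n A _) p.succ_pos

lemma isQCoh_twistProjSpace (d : ℤ) :
    (Twist.twistProjSpace n A d).IsQuasicoherent :=
  EGA73.isQCoh_twist (CohB1.polyGrading n A) d

lemma acyclicOn_twist (d : ℤ) :
    CechComp71.AcyclicOn (stdU n A) (Coh.toAb (Twist.twistProjSpace n A d)) :=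
  have := isQCoh_twistProjSpace n A d
  CechComp71.acyclicOn_of_isAffineOpen (stdU n A) _ fun _ i => isAffineOpen_cOpen_stdU n A i

variable (d : ℤ) (p : ℕ)

/-- Laurent cocycles to cohomology, linearly over the base ring. -/
def toHHLin : cocycles A (Fin (n + 1)) d p →ₗ[A]
    Coh.HH (CohB1.ProjSpace n A) (Twist.twistProjSpace n A d) p where
  toFun z := CechComp71.toHH (stdU n A) (iSup_stdU n A) _ p ((cocycleEquiv n A d p).symm z)
  map_add' z z' := (congrArg _ (map_add (cocycleEquiv n A d p).symm z z')).trans (map_add _ _ _)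
  map_smul' r z := by
    let M := Twist.twistProjSpace n A d
    let s := Coh.toGlobal (CohB1.ProjSpace.toSpec n A) r
    change _ = s • CechComp71.toHH (stdU n A) (iSup_stdU n A) M p ((cocycleEquiv n A d p).symm z)
    refine Eq.trans ?_ (CechComp71.toHH_smul (stdU n A) (iSup_stdU n A) M s p _)
    congr 1
    apply (cocycleEquiv n A d p).injective
    rw [AddEquiv.apply_symm_apply]
    refine Subtype.ext ?_
    let w : CechComp71.MZ (stdU n A) M p := (cocycleEquiv n A d p).symm z
    have hz : (cochainEquiv n A d p w.1).1 = z.1 :=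
      congrArg Subtype.val ((cocycleEquiv n A d p).apply_symm_apply z)
    have h : (cochainEquiv n A d p
        (Coh69.cmap (stdU n A) (Coh.smulAb M s).hom p w.1)).1 = r • z.1 := by
      refine (congrArg Subtype.val (cochainEquiv_smul n A d r w.1)).trans ?_
      rw [Submodule.coe_smul, hz]
    exact h.symm

lemma toHHLin_surjective : Function.Surjective (toHHLin n A d p) :=
  (CechComp71.toHH_surjective (iSup_stdU n A) (acyclicOn_twist n A d) p).comp
    (cocycleEquiv n A d p).symm.surjective

lemma ker_toHHLin :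
    LinearMap.ker (toHHLin n A d p) =
      (coboundaries A (Fin (n + 1)) d p).comap (cocycles A (Fin (n + 1)) d p).subtype := by
  ext z
  rw [LinearMap.mem_ker, Submodule.mem_comap]
  cases p with
  | zero =>
    have h := CechComp71.toHH_zero_bijective (stdU n A) (iSup_stdU n A) (Twist.twistProjSpace n A d)
    constructor
    · intro hz
      have h2 : (cocycleEquiv n A d 0).symm z = 0 := h.1 (hz.trans (map_zero _).symm)
      have h3 : z = 0 := (cocycleEquiv n A d 0).symm.map_eq_zero_iff.1 h2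
      simp [coboundaries, h3]
    · intro hz
      have h3 : z = 0 := Subtype.ext (by simpa [coboundaries] using hz)
      rw [h3, map_zero]
  | succ q =>
    refine (CechComp71.toHH_eq_zero_iff (iSup_stdU n A) (acyclicOn_twist n A d) q _).trans ?_
    refine (exists_cd_eq_iff n A d _).trans ?_
    rw [show (cochainEquiv n A d (q + 1) ((cocycleEquiv n A d (q + 1)).symm z).1).1 = z.1 from
      congrArg Subtype.val ((cocycleEquiv n A d (q + 1)).apply_symm_apply z)]
    rfl

/-- `H^p(P^n_A, O(d))` as the Laurent cohomology. -/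
def hhEquiv : (cocycles A (Fin (n + 1)) d p ⧸
      (coboundaries A (Fin (n + 1)) d p).comap (cocycles A (Fin (n + 1)) d p).subtype) ≃ₗ[A]
    Coh.HH (CohB1.ProjSpace n A) (Twist.twistProjSpace n A d) p :=
  (Submodule.quotEquivOfEq _ _ (ker_toHHLin n A d p).symm).trans
    (LinearMap.quotKerEquivOfSurjective _ (toHHLin_surjective n A d p))

/-- The top cohomology. -/
def hhTopEquiv (h0 : n = 0 → d < 0) :
    Coh.HH (CohB1.ProjSpace n A) (Twist.twistProjSpace n A d) n ≃ₗ[A]
      Finsupp.supported A A (negCell (ι := Fin (n + 1)) d) :=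
  (hhEquiv n A d n).symm.trans (topEquiv (Equiv.refl (Fin (n + 1))) h0)

/-- The degree-zero cohomology for `1 ≤ n`. -/
def hhZeroEquiv (hn : 1 ≤ n) :
    Coh.HH (CohB1.ProjSpace n A) (Twist.twistProjSpace n A d) 0 ≃ₗ[A]
      Finsupp.supported A A (posCell (ι := Fin (n + 1)) d) :=
  have : Nontrivial (Fin (n + 1)) := Fin.nontrivial_iff_two_le.2 (by omega)
  ((hhEquiv n A d 0).symm.trans (Submodule.quotEquivOfEqBot _ (by
      ext z
      simp [coboundaries]))).trans (zeroEquiv A d (0 : Fin (n + 1)))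

lemma subsingleton_hh_of_forall (q : ℕ)
    (h : ∀ c ∈ Cochain A (Fin (n + 1)) d (q + 1), dd c = 0 →
      ∃ b ∈ Cochain A (Fin (n + 1)) d q, dd b = c) :
    Subsingleton (Coh.HH (CohB1.ProjSpace n A) (Twist.twistProjSpace n A d) (q + 1)) := by
  refine subsingleton_of_forall_eq 0 fun x => ?_
  obtain ⟨z, rfl⟩ := toHHLin_surjective n A d (q + 1) x
  rw [← LinearMap.mem_ker, ker_toHHLin, Submodule.mem_comap]
  obtain ⟨b, hb, hbz⟩ := h z.1 z.2.1 (by simpa using z.2.2)
  exact ⟨b, hb, by rw [dLin_apply, hbz]; rfl⟩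

theorem subsingleton_hh_of_gt (hp : n < p) :
    Subsingleton (Coh.HH (CohB1.ProjSpace n A) (Twist.twistProjSpace n A d) p) := by
  obtain ⟨q, rfl⟩ : ∃ q, p = q + 1 := ⟨p - 1, by omega⟩
  exact subsingleton_hh_of_forall n A d q fun c hc hd =>
    exists_dd_eq_of_card_le (by simp; omega) c hc hd

theorem subsingleton_hh_of_lt (hp0 : 0 < p) (hp : p < n) :
    Subsingleton (Coh.HH (CohB1.ProjSpace n A) (Twist.twistProjSpace n A d) p) := by
  obtain ⟨q, rfl⟩ : ∃ q, p = q + 1 := ⟨p - 1, by omega⟩
  exact subsingleton_hh_of_forall n A d q fun c hc hd =>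
    exists_dd_eq c hc hd fun σ m hm =>
      apply_eq_zero_of_allNeg (by simp only [Fintype.card_fin]; omega) c hc σ m hm

/-- `H⁰(P⁰_A, O(d)) = A`, via the one Laurent monomial of degree `d`. -/
theorem subsingleton_supported_of_eq_empty {S : Set (Fin (n + 1) →₀ ℤ)} (hS : S = ∅) :
    Subsingleton (Finsupp.supported A A S) := by
  subst hS
  rw [Finsupp.supported_empty]
  infer_instance

end Groth.Agent.Pn71

namespace Groth.Agent.Pn71

section PointSpace

variable {A : Type*} [CommRing A] {ι : Type*} [Fintype ι] [Subsingleton ι] {d : ℤ}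

/-- Degree-zero cocycles on a point. -/
def zeroEquivPoint (A : Type*) [CommRing A] (d : ℤ) (hd : 0 ≤ d) (i₀ : ι) :
    cocycles A ι d 0 ≃ₗ[A] Finsupp.supported A A (posCell (ι := ι) d) where
  toFun z := ⟨z.1 ![i₀], (Finsupp.mem_supported' _ _).2 fun m hm => by_contra fun hne => hm (by
    have h := (mem_cochain.1 z.2.1 _ m hne).1
    refine ⟨h, fun i => ?_⟩
    rw [deg, Fintype.sum_subsingleton _ i] at h
    omega)⟩
  map_add' _ _ := rfl
  map_smul' _ _ := rfl
  invFun v := ⟨fun _ => v.1, mem_cochain.2 fun σ m hm => ⟨(by_contra fun h =>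
      hm ((Finsupp.mem_supported' _ _).1 v.2 m fun h' => h h'.1)),
    fun i _ => ⟨0, Subsingleton.elim _ _⟩⟩, by
      funext τ
      simp [dd, Fin.sum_univ_two]⟩
  left_inv z := Subtype.ext <| funext fun σ => congrArg z.1 (funext fun a => Subsingleton.elim _ _)
  right_inv _ := rfl

end PointSpace

variable (n : ℕ) (A : Type u) [CommRing A]

/-- `H⁰(P^n_A, O(d))` for `0 ≤ d`. -/
def hhZeroEquivNonneg (d : ℤ) (hd : 0 ≤ d) :
    Coh.HH (CohB1.ProjSpace n A) (Twist.twistProjSpace n A d) 0 ≃ₗ[A]
      Finsupp.supported A A (posCell (ι := Fin (n + 1)) d) :=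
  if hn : 1 ≤ n then hhZeroEquiv n A d hn else
    have : Subsingleton (Fin (n + 1)) := Fin.subsingleton_iff_le_one.2 (by omega)
    ((hhEquiv n A d 0).symm.trans (Submodule.quotEquivOfEqBot _ (by
      ext z
      simp [coboundaries]))).trans (zeroEquivPoint A d hd (0 : Fin (n + 1)))

/-- Vanishing outside the two classical cases. -/
theorem subsingleton_hh (d : ℤ) (q : ℕ)
    (h₀ : ¬ (q = 0 ∧ 0 ≤ d)) (hn : ¬ (q = n ∧ d ≤ -((n : ℤ) + 1))) :
    Subsingleton (Coh.HH (CohB1.ProjSpace n A) (Twist.twistProjSpace n A d) q) := by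
  rcases Nat.eq_zero_or_pos q with rfl | hq
  · have hd : d < 0 := not_le.1 fun h => h₀ ⟨rfl, h⟩
    rcases Nat.eq_zero_or_pos n with rfl | hn'
    · exact absurd ⟨rfl, by simp only [Nat.cast_zero]; omega⟩ hn
    have := subsingleton_supported_of_eq_empty n A (posCell_eq_empty (ι := Fin (n + 1)) hd)
    exact (hhZeroEquiv n A d hn').toEquiv.subsingleton
  rcases lt_trichotomy q n with h | rfl | h
  · exact subsingleton_hh_of_lt n A d q hq h
  · have hd : -((q : ℤ) + 1) < d := not_le.1 fun h => hn ⟨rfl, h⟩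
    have := subsingleton_supported_of_eq_empty q A
      (negCell_eq_empty (ι := Fin (q + 1)) (d := d) (by simpa using hd))
    exact (hhTopEquiv q A d (by omega)).toEquiv.subsingleton
  · exact subsingleton_hh_of_gt n A d q h

instance finite_hh (d : ℤ) (q : ℕ) :
    Module.Finite A (Coh.HH (CohB1.ProjSpace n A) (Twist.twistProjSpace n A d) q) := by
  by_cases h₀ : q = 0 ∧ 0 ≤ d
  · obtain ⟨rfl, hd⟩ := h₀
    have := finite_supported A (finite_posCell (ι := Fin (n + 1)) d)
    exact Module.Finite.equiv (hhZeroEquivNonneg n A d hd).symm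
  by_cases hn : q = n ∧ d ≤ -((n : ℤ) + 1)
  · obtain ⟨rfl, hd⟩ := hn
    have := finite_supported A (finite_negCell (ι := Fin (q + 1)) d)
    exact Module.Finite.equiv (hhTopEquiv q A d (fun _ => by omega)).symm
  have := subsingleton_hh n A d q h₀ hn
  exact Module.Finite.of_finite

end Groth.Agent.Pn71
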