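import Groth.Prelude.Def_CohB1

/-! The structure map of projective space on global functions. -/

open CategoryTheory AlgebraicGeometry Opposite TopologicalSpace

universe u

namespace Groth.Agent.Pn71

theorem topIso_inv_comp_isoOfEq {X : Scheme.{u}} (W : X.Opens) (h : W = ⊤) :
    W.topIso.inv ≫ Scheme.Hom.appTop (X.isoOfEq h).inv ≫ Scheme.Hom.appTop X.topIso.inv =
      X.presheaf.map (eqToHom h.symm).op := by
  subst h
  have h2 : (X.topIso.inv ≫ (⊤ : X.Opens).ι).appTop = 𝟙 _ := by
    rw [← Scheme.topIso_hom, Iso.inv_hom_id]; rfl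
  rw [Scheme.Hom.comp_appTop] at h2
  simp only [Scheme.isoOfEq_rfl, Iso.refl_inv, eqToHom_refl, op_id, CategoryTheory.Functor.map_id]
  rw [← h2]
  simp; congr 1

variable {R S : Type u} [CommRing R] [CommRing S] [Algebra R S] (𝒜 : ℕ → Submodule R S) [GradedAlgebra 𝒜]

theorem toSpecZero_appTop : (Scheme.ΓSpecIso (.of (𝒜 0))).inv ≫ (Proj.toSpecZero 𝒜).appTop =
   CommRingCat.ofHom (HomogeneousLocalization.fromZeroRingHom 𝒜 _) ≫ Proj.awayToSection 𝒜 1 ≫
     (Proj 𝒜).presheaf.map (eqToHom (Proj.basicOpen_one 𝒜).symm).op := by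
  simp only [Proj.toSpecZero, Proj.basicOpenToSpec, Scheme.Opens.toSpecΓ_appTop, Scheme.Hom.comp_appTop, Category.assoc]
  rw [Scheme.ΓSpecIso_naturality_assoc, Scheme.ΓSpecIso_naturality_assoc, Iso.inv_hom_id_assoc,
    topIso_inv_comp_isoOfEq]

omit [CommRing R] in
theorem toGlobal_apply (n : ℕ) (A : Type u) [CommRing A] (r : A) (x : CohB1.ProjSpace n A) :
    (((Coh.toGlobal (CohB1.ProjSpace.toSpec n A) r :
        (ProjectiveSpectrum.Proj.structureSheaf (CohB1.polyGrading n A)).1.obj (op ⊤))).1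
          ⟨x, trivial⟩).val =
      Localization.mk (MvPolynomial.C r) 1 := by
  have h : Coh.toGlobal (CohB1.ProjSpace.toSpec n A) r =
      ((Scheme.ΓSpecIso (.of (CohB1.polyGrading n A 0))).inv ≫
        (Proj.toSpecZero (CohB1.polyGrading n A)).appTop).hom
          (algebraMap A (CohB1.polyGrading n A 0) r) := by
    have := Scheme.ΓSpecIso_inv_naturality
      (CommRingCat.ofHom (algebraMap A (CohB1.polyGrading n A 0)))
    simp only [Coh.toGlobal, CohB1.ProjSpace.toSpec, Scheme.Hom.comp_appTop]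
    exact congr((Proj.toSpecZero (CohB1.polyGrading n A)).appTop.hom ($(this.symm) r))
  rw [h, toSpecZero_appTop]
  exact (ProjectiveSpectrum.Proj.awayToSection_apply _ _ _ _).trans (by
    change IsLocalization.map _ _ _ (Localization.mk _ _) = Localization.mk _ _
    rw [Localization.mk_eq_mk', Localization.mk_eq_mk']
    exact (IsLocalization.map_mk' _ _ _).trans rfl)

end Groth.Agent.Pn71
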