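import Groth.Prelude.Def_Twist2
import Mathlib.RingTheory.GradedAlgebra.Radical
import Mathlib.AlgebraicGeometry.ProjectiveSpectrum.Scheme

/-! Sections of the twisting sheaves over a basic open. -/

open CategoryTheory AlgebraicGeometry TopologicalSpace Opposite

universe u

noncomputable section

namespace Groth.Agent.Pn71

variable {R S : Type u} [CommRing R] [CommRing S] [Algebra R S] {𝒜 : ℕ → Submodule R S}
  [GradedAlgebra 𝒜] {f : S} {e : ℕ} (hf : f ∈ 𝒜 e) {d : ℤ}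

lemma pow_not_mem (k : ℕ) (x : ProjectiveSpectrum.basicOpen 𝒜 f) :
    f ^ k ∉ x.1.asHomogeneousIdeal :=
  fun h => x.2 (x.1.isPrime.mem_of_pow_mem k h)

variable (d) in
/-- The section `a / f ^ k` of `O(d)` over `D₊(f)`. -/
def frac {i : ℕ} (k : ℕ) (a : 𝒜 i) (h : (i : ℤ) = (k * e : ℕ) + d) :
    Twist.sectN (𝒜 := 𝒜) d (op (ProjectiveSpectrum.basicOpen 𝒜 f)) :=
  ⟨fun x => ⟨Localization.mk a.1 ⟨f ^ k, pow_not_mem k x⟩,
      Submodule.subset_span ⟨i, k * e, a, ⟨f ^ k, by simpa using SetLike.pow_mem_graded k hf⟩,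
        pow_not_mem k x, h, rfl⟩⟩,
    fun x => ⟨_, x.2, 𝟙 _, i, k * e, a, ⟨f ^ k, by simpa using SetLike.pow_mem_graded k hf⟩,
      fun y => pow_not_mem k y, Or.inl h, fun _ => rfl⟩⟩

lemma frac_apply {i : ℕ} (k : ℕ) (a : 𝒜 i) (h : (i : ℤ) = (k * e : ℕ) + d)
    (x : ProjectiveSpectrum.basicOpen 𝒜 f) :
    ((frac hf d k a h).1 x : Twist.Loc 𝒜 x.1) = Localization.mk a.1 ⟨f ^ k, pow_not_mem k x⟩ := rfl

include hf in
/-- A homogeneous element vanishing at all points of `D₊(f)` is killed by a power of `f`. -/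
lemma exists_pow_mul_eq_zero (he : 0 < e) {i : ℕ} {b : S} (hb : b ∈ 𝒜 i)
    (h : ∀ x : ProjectiveSpectrum.basicOpen 𝒜 f,
      algebraMap S (Twist.Loc 𝒜 x.1) b = 0) :
    ∃ N : ℕ, f ^ N * b = 0 := by
  by_contra hN
  push Not at hN
  let I : Ideal S := (⊥ : Ideal S).colon (Ideal.span {b})
  have hI : ∀ c, c ∈ I ↔ c * b = 0 := fun c => by simp [I, Submodule.mem_colon_singleton]
  obtain ⟨P, hP, hIP, hdisj⟩ := Ideal.exists_le_prime_disjoint I (Submonoid.powers f)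
    (Set.disjoint_left.2 fun c hc ⟨N, hN'⟩ => hN N (by rw [← hN'] at hc; exact (hI _).1 hc))
  let Q := P.homogeneousCore 𝒜
  have hQ : Q.toIdeal.IsPrime := hP.homogeneousCore
  have hfQ : f ∉ Q.toIdeal := fun hc => Set.disjoint_left.1 hdisj
    (Ideal.toIdeal_homogeneousCore_le 𝒜 P hc) (Submonoid.mem_powers f)
  have hirr : ¬ HomogeneousIdeal.irrelevant 𝒜 ≤ Q := fun hle =>
    hfQ (hle (by
      rw [HomogeneousIdeal.mem_irrelevant_iff, GradedRing.proj_apply]
      exact DirectSum.decompose_of_mem_ne 𝒜 hf he.ne'))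
  let x : ProjectiveSpectrum.basicOpen 𝒜 f := ⟨⟨Q, hQ, hirr⟩, hfQ⟩
  obtain ⟨⟨c, hc⟩, hcb⟩ := (IsLocalization.map_eq_zero_iff
    x.1.asHomogeneousIdeal.toIdeal.primeCompl _ _).1 (h x)
  classical
  refine hc ?_
  change c ∈ Q.toIdeal
  rw [← DirectSum.sum_support_decompose 𝒜 c]
  refine Ideal.sum_mem _ fun j _ => ?_
  refine Ideal.mem_homogeneousCore_of_homogeneous_of_mem ⟨j, SetLike.coe_mem _⟩ (hIP ((hI _).2 ?_))
  have h2 := DirectSum.coe_decompose_mul_of_right_mem_of_le 𝒜 (a := c) (b := b) hb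
    (n := j + i) (Nat.le_add_left i j)
  rw [show c * b = 0 from hcb, DirectSum.decompose_zero] at h2
  have e' : ((DirectSum.decompose 𝒜 c) j : S) = (DirectSum.decompose 𝒜 c) (j + i - i) :=
    congrArg (fun t => ((DirectSum.decompose 𝒜 c) t : S)) (Nat.add_sub_cancel j i).symm
  rw [e']
  simpa using h2.symm

lemma mk_eq_mk_of_pow_mul_eq {a a' : S} {k k' : ℕ} (x : ProjectiveSpectrum.basicOpen 𝒜 f)
    (h : a * f ^ k' = a' * f ^ k) :
    (Localization.mk a ⟨f ^ k, pow_not_mem k x⟩ : Twist.Loc 𝒜 x.1) =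
      Localization.mk a' ⟨f ^ k', pow_not_mem k' x⟩ := by
  rw [Localization.mk_eq_mk_iff, Localization.r_iff_exists]
  exact ⟨1, by simp only [OneMemClass.coe_one, one_mul]; linear_combination h⟩

lemma frac_eq_iff (hreg : f ∈ nonZeroDivisors S) (he : 0 < e) {i i' : ℕ} (k k' : ℕ)
    (a : 𝒜 i) (a' : 𝒜 i') (h : (i : ℤ) = (k * e : ℕ) + d) (h' : (i' : ℤ) = (k' * e : ℕ) + d) :
    frac hf d k a h = frac hf d k' a' h' ↔ a.1 * f ^ k' = a'.1 * f ^ k := by
  constructor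
  · intro hfr
    have hdeg : i + k' * e = i' + k * e := by omega
    have hb : a.1 * f ^ k' - a'.1 * f ^ k ∈ 𝒜 (i + k' * e) := by
      refine sub_mem (SetLike.mul_mem_graded a.2 (by simpa using SetLike.pow_mem_graded k' hf)) ?_
      rw [hdeg]
      exact SetLike.mul_mem_graded a'.2 (by simpa using SetLike.pow_mem_graded k hf)
    obtain ⟨N, hN⟩ := exists_pow_mul_eq_zero hf he hb fun x => by
      have := congrArg (fun s : Twist.sectN (𝒜 := 𝒜) d (op (ProjectiveSpectrum.basicOpen 𝒜 f)) =>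
        (s.1 x : Twist.Loc 𝒜 x.1)) hfr
      simp only [frac_apply, Localization.mk_eq_mk', IsLocalization.mk'_eq_iff_eq] at this
      rw [map_sub, sub_eq_zero]
      simpa [mul_comm] using this
    exact sub_eq_zero.1 ((mem_nonZeroDivisors_iff.1 (pow_mem hreg N)).1 _ hN)
  · intro hcross
    exact Subtype.ext (funext fun x => Subtype.ext (mk_eq_mk_of_pow_mul_eq x hcross))

lemma frac_add_frac {i : ℕ} (k : ℕ) (a a' : 𝒜 i) (h : (i : ℤ) = (k * e : ℕ) + d) :
    frac hf d k a h + frac hf d k a' h = frac hf d k (a + a') h := by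
  refine Subtype.ext (funext fun x => Subtype.ext ?_)
  change (Localization.mk _ _ : Twist.Loc 𝒜 x.1) + Localization.mk _ _ = Localization.mk _ _
  rw [Localization.add_mk_self]
  rfl

section Surjective

variable (d) in
/-- `u / f^r` and `v / f^r'` are mutually inverse of degrees `d` and `-d`. -/
structure DegUnit where
  i : ℕ
  r : ℕ
  u : 𝒜 i
  j : ℕ
  r' : ℕ
  v : 𝒜 j
  hi : (i : ℤ) = (r * e : ℕ) + d
  hj : (j : ℤ) = (r' * e : ℕ) - d
  mul_eq : u.1 * v.1 = f ^ (r + r')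

include hf in
lemma exists_frac_eq (he : 0 < e) (w : DegUnit (𝒜 := 𝒜) (f := f) (e := e) d)
    (s : Twist.sectN (𝒜 := 𝒜) d (op (ProjectiveSpectrum.basicOpen 𝒜 f))) :
    ∃ (i k : ℕ) (a : 𝒜 i) (h : (i : ℤ) = (k * e : ℕ) + d), s = frac hf d k a h := by
  let U := ProjectiveSpectrum.basicOpen 𝒜 f
  have key : ∀ x : U, ∃ V : Opens (ProjectiveSpectrum.top 𝒜), x.1 ∈ V ∧ ∃ (le : V ≤ U) (n : ℕ) (p q : 𝒜 n) (hq : ∀ y : V, q.1 ∉ y.1.asHomogeneousIdeal),
      ∀ y : V, ((s.1 ⟨y.1, le y.2⟩ : Twist.Loc 𝒜 y.1) *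
        Localization.mk w.v.1 ⟨f ^ w.r', pow_not_mem w.r' (⟨y.1, le y.2⟩ : U)⟩) =
          Localization.mk p.1 ⟨q.1, hq y⟩ := by
    intro x
    obtain ⟨V, hV, iV, i, j, a, b, hb, hab, hs⟩ := s.2 x
    have le : V ≤ U := leOfHom iV
    refine ⟨V, hV, le, j + w.r' * e, ⟨a.1 * w.v.1, ?_⟩,
      ⟨b.1 * f ^ w.r', SetLike.mul_mem_graded b.2 (by simpa using SetLike.pow_mem_graded w.r' hf)⟩,
      fun y h => (y.1.isPrime.mem_or_mem h).elim (hb y) (pow_not_mem w.r' (⟨y.1, le y.2⟩ : U)),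
      fun y => ?_⟩
    · rcases hab with h | h
      · rw [show j + w.r' * e = i + w.j by have := w.hj; omega]
        exact SetLike.mul_mem_graded a.2 w.v.2
      · simp [h]
    · have := hs y
      exact (congrArg (· * _) this).trans (Localization.mk_mul _ _ _ _)
  have hval : ∀ x : U, ∃ z : HomogeneousLocalization.AtPrime 𝒜 x.1.asHomogeneousIdeal.toIdeal,
      z.val = (s.1 x : Twist.Loc 𝒜 x.1) * Localization.mk w.v.1 ⟨f ^ w.r', pow_not_mem w.r' x⟩ := by
    intro x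
    obtain ⟨V, hV, le, n, p, q, hq, h⟩ := key x
    exact ⟨HomogeneousLocalization.mk ⟨n, p, q, hq ⟨x.1, hV⟩⟩, (h ⟨x.1, hV⟩).symm⟩
  choose t ht using hval
  let t' : (ProjectiveSpectrum.Proj.structureSheaf 𝒜).1.obj (op U) := ⟨t, fun x => by
    obtain ⟨V, hV, le, n, p, q, hq, h⟩ := key x
    refine ⟨V, hV, homOfLE le, n, p, q, hq, fun y => HomogeneousLocalization.val_injective _ ?_⟩
    exact (ht ⟨y.1, le y.2⟩).trans (h y)⟩
  obtain ⟨z, hz⟩ := (ConcreteCategory.bijective_of_isIso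
    (Proj.basicOpenIsoAway 𝒜 f hf he).hom).2 t'
  obtain ⟨n, a, ha, rfl⟩ := HomogeneousLocalization.Away.mk_surjective 𝒜 hf z
  refine ⟨n * e + w.i, n + w.r, ⟨a * w.u.1, SetLike.mul_mem_graded (by simpa using ha) w.u.2⟩,
    by have := w.hi; push_cast at this ⊢; linarith, Subtype.ext (funext fun x => Subtype.ext ?_)⟩
  change _ = Localization.mk _ _
  have hx : (t x).val = Localization.mk a ⟨f ^ n, pow_not_mem n x⟩ := by
    have := congrArg (fun s : (ProjectiveSpectrum.Proj.structureSheaf 𝒜).1.obj (op U) =>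
      (s.1 x).val) hz
    simp only [t'] at this
    rw [← this]
    exact (ProjectiveSpectrum.Proj.awayToSection_apply 𝒜 f _ x).trans (by
      rw [HomogeneousLocalization.Away.val_mk, Localization.mk_eq_mk', IsLocalization.map_mk',
        Localization.mk_eq_mk']
      rfl)
  have hone : (Localization.mk w.v.1 ⟨f ^ w.r', pow_not_mem w.r' x⟩ *
      Localization.mk w.u.1 ⟨f ^ w.r, pow_not_mem w.r x⟩ : Twist.Loc 𝒜 x.1) = 1 := by
    rw [Localization.mk_mul, Localization.mk_eq_mk', IsLocalization.mk'_eq_iff_eq_mul, one_mul]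
    refine congrArg _ ?_
    simp [mul_comm w.v.1, w.mul_eq, pow_add, mul_comm]
  have h2 : (s.1 x : Twist.Loc 𝒜 x.1) =
      (t x).val * Localization.mk w.u.1 ⟨f ^ w.r, pow_not_mem w.r x⟩ := by
    rw [ht x, mul_assoc, hone, mul_one]
  rw [h2, hx, Localization.mk_mul]
  congr 1
  exact Subtype.ext (pow_add f n w.r).symm

end Surjective

end Groth.Agent.Pn71
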