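import Groth.Agent.Pn71.Laurent
import Groth.Agent.Pn71.TwistSections
import Groth.Agent.Pn71.ToGlobal

/-! Sections of `O(d)` over the standard opens of projective space as Laurent polynomials. -/

open CategoryTheory AlgebraicGeometry TopologicalSpace Opposite

universe u

set_option maxSynthPendingDepth 6
set_option maxHeartbeats 1000000
set_option synthInstance.maxHeartbeats 400000

noncomputable section

namespace Groth.Agent.Pn71

variable (n : ℕ) (A : Type u) [CommRing A] (d : ℤ) {p q : ℕ}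

variable {n} in
/-- The monomial of a tuple. -/
abbrev mon (σ : Fin (p + 1) → Fin (n + 1)) : MvPolynomial (Fin (n + 1)) A :=
  ∏ a, MvPolynomial.X (σ a)

variable {n} in
/-- Its exponent. -/
def ez (σ : Fin (p + 1) → Fin (n + 1)) : Fin (n + 1) →₀ ℕ := ∑ a, Finsupp.single (σ a) 1

lemma mon_eq (σ : Fin (p + 1) → Fin (n + 1)) :
    mon A σ = MvPolynomial.monomial (ez σ) 1 := by
  rw [ez, MvPolynomial.monomial_sum_one]
  rfl

lemma mon_mem (σ : Fin (p + 1) → Fin (n + 1)) : mon A σ ∈ CohB1.polyGrading n A (p + 1) := by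
  have := MvPolynomial.IsHomogeneous.prod Finset.univ
    (fun a : Fin (p + 1) => MvPolynomial.X (R := A) (σ a)) (fun _ => 1)
    (fun a _ => MvPolynomial.isHomogeneous_X A (σ a))
  simpa using this

lemma mon_mem_nonZeroDivisors (σ : Fin (p + 1) → Fin (n + 1)) :
    mon A σ ∈ nonZeroDivisors (MvPolynomial (Fin (n + 1)) A) := by
  rw [mon_eq, ← isRegular_iff_mem_nonZeroDivisors]
  exact isRegular_one.monomial

lemma ez_apply_pos (σ : Fin (p + 1) → Fin (n + 1)) (i : Fin (n + 1)) :
    1 ≤ ez σ i ↔ i ∈ Set.range σ := by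
  simp [ez, Finsupp.single_apply, Nat.one_le_iff_ne_zero, Set.mem_range]

lemma degree_ez (σ : Fin (p + 1) → Fin (n + 1)) : (ez σ).degree = p + 1 := by
  simp [ez, map_sum]

/-- The standard open of a tuple. -/
abbrev Dp (σ : Fin (p + 1) → Fin (n + 1)) : Opens (ProjectiveSpectrum.top (CohB1.polyGrading n A)) :=
  ProjectiveSpectrum.basicOpen (CohB1.polyGrading n A) (mon A σ)

lemma Dp_eq_iInf (σ : Fin (p + 1) → Fin (n + 1)) :
    Dp n A σ = ⨅ a, ProjectiveSpectrum.basicOpen (CohB1.polyGrading n A) (MvPolynomial.X (σ a)) := by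
  refine le_antisymm (le_iInf fun a x h ha =>
    h (Ideal.mem_of_dvd _ (Finset.dvd_prod_of_mem _ (Finset.mem_univ a)) ha)) fun x hx hm => ?_
  obtain ⟨a, -, ha⟩ := x.isPrime.prod_mem_iff.1 hm
  exact iInf_le (fun a => ProjectiveSpectrum.basicOpen (CohB1.polyGrading n A)
    (MvPolynomial.X (σ a))) a hx ha

lemma Dp_comp_le (τ : Fin (q + 1) → Fin (n + 1)) (g : Fin (p + 1) → Fin (q + 1)) :
    Dp n A τ ≤ Dp n A (τ ∘ g) := by
  rw [Dp_eq_iInf, Dp_eq_iInf]
  exact le_iInf fun a => iInf_le _ (g a)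

/-- The mutually inverse fractions of degree `d`, `-d`. -/
def degUnit (σ : Fin (p + 1) → Fin (n + 1)) :
    DegUnit (𝒜 := CohB1.polyGrading n A) (f := mon A σ) (e := p + 1) d where
  i := if 0 ≤ d then d.toNat else (-d).toNat * p
  r := if 0 ≤ d then 0 else (-d).toNat
  u := ⟨if 0 ≤ d then MvPolynomial.X (σ 0) ^ d.toNat
      else (∏ a : Fin p, MvPolynomial.X (σ a.succ)) ^ (-d).toNat, by
    have hp : ∏ a : Fin p, MvPolynomial.X (R := A) (σ a.succ) ∈ CohB1.polyGrading n A p := by
      simpa using MvPolynomial.IsHomogeneous.prod Finset.univ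
        (fun a : Fin p => MvPolynomial.X (R := A) (σ a.succ)) (fun _ => 1)
        (fun a _ => MvPolynomial.isHomogeneous_X A _)
    split_ifs
    · simpa using SetLike.pow_mem_graded d.toNat
        (show MvPolynomial.X (R := A) (σ 0) ∈ CohB1.polyGrading n A 1 from MvPolynomial.isHomogeneous_X A _)
    · simpa using SetLike.pow_mem_graded (-d).toNat hp⟩
  j := if 0 ≤ d then d.toNat * p else (-d).toNat
  r' := if 0 ≤ d then d.toNat else 0
  v := ⟨if 0 ≤ d then (∏ a : Fin p, MvPolynomial.X (σ a.succ)) ^ d.toNat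
      else MvPolynomial.X (σ 0) ^ (-d).toNat, by
    have hp : ∏ a : Fin p, MvPolynomial.X (R := A) (σ a.succ) ∈ CohB1.polyGrading n A p := by
      simpa using MvPolynomial.IsHomogeneous.prod Finset.univ
        (fun a : Fin p => MvPolynomial.X (R := A) (σ a.succ)) (fun _ => 1)
        (fun a _ => MvPolynomial.isHomogeneous_X A _)
    split_ifs
    · simpa using SetLike.pow_mem_graded d.toNat hp
    · simpa using SetLike.pow_mem_graded (-d).toNat
        (show MvPolynomial.X (R := A) (σ 0) ∈ CohB1.polyGrading n A 1 from MvPolynomial.isHomogeneous_X A _)⟩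
  hi := by
    split_ifs with h <;> push_cast <;> [omega; (rw [Int.toNat_of_nonneg (by omega)]; ring)]
  hj := by
    split_ifs with h <;> push_cast <;> [(rw [Int.toNat_of_nonneg h]; ring); omega]
  mul_eq := by
    split_ifs <;> simp [mon, Fin.prod_univ_succ, ← mul_pow, mul_comm]

/-- Laurent polynomials. -/
abbrev LPoly : Type u := AddMonoidAlgebra A (Fin (n + 1) →₀ ℤ)

/-- From polynomials to Laurent polynomials. -/
def toL : MvPolynomial (Fin (n + 1)) A →ₐ[A] LPoly n A :=
  AddMonoidAlgebra.mapDomainAlgHom A A (Finsupp.mapRange.addMonoidHom (Nat.castAddMonoidHom ℤ))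

lemma mapRange_cast_injective :
    Function.Injective (Finsupp.mapRange.addMonoidHom (ι := Fin (n + 1)) (Nat.castAddMonoidHom ℤ)) :=
  Finsupp.mapRange_injective _ (map_zero _) Nat.cast_injective

lemma toL_injective : Function.Injective (toL n A) :=
  AddMonoidAlgebra.mapDomain_injective (mapRange_cast_injective n)

lemma toL_monomial (s : Fin (n + 1) →₀ ℕ) (r : A) :
    toL n A (MvPolynomial.monomial s r) =
      AddMonoidAlgebra.single (Finsupp.mapRange.addMonoidHom (Nat.castAddMonoidHom ℤ) s) r := by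
  rw [← MvPolynomial.single_eq_monomial]
  exact AddMonoidAlgebra.mapDomain_single

variable {n} in
/-- Integral exponent of a tuple. -/
def ezZ (σ : Fin (p + 1) → Fin (n + 1)) : Fin (n + 1) →₀ ℤ :=
  Finsupp.mapRange.addMonoidHom (Nat.castAddMonoidHom ℤ) (ez σ)

lemma toL_mon_pow (σ : Fin (p + 1) → Fin (n + 1)) (k : ℕ) :
    toL n A (mon A σ ^ k) = AddMonoidAlgebra.single (k • ezZ σ) (1 : A) := by
  rw [mon_eq, MvPolynomial.monomial_pow, one_pow, toL_monomial, map_nsmul]
  rfl

variable {n} in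
/-- The Laurent polynomial `a / mon σ ^ k`. -/
def vec (σ : Fin (p + 1) → Fin (n + 1)) (k : ℕ) (a : MvPolynomial (Fin (n + 1)) A) : LPoly n A :=
  toL n A a * AddMonoidAlgebra.single (-(k • ezZ σ)) 1

lemma vec_eq_vec_iff (σ : Fin (p + 1) → Fin (n + 1)) (k k' : ℕ)
    (a a' : MvPolynomial (Fin (n + 1)) A) :
    vec A σ k a = vec A σ k' a' ↔ a * mon A σ ^ k' = a' * mon A σ ^ k := by
  have hu : ∀ m : Fin (n + 1) →₀ ℤ, IsUnit (AddMonoidAlgebra.single m (1 : A)) := fun m =>
    IsUnit.of_mul_eq_one (AddMonoidAlgebra.single (-m) (1 : A))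
      (by rw [AddMonoidAlgebra.single_mul_single, add_neg_cancel, one_mul]; rfl)
  rw [← (toL_injective n A).eq_iff, map_mul, map_mul, toL_mon_pow, toL_mon_pow]
  constructor <;> intro h
  · have h2 := congrArg (· * AddMonoidAlgebra.single (k • ezZ σ + k' • ezZ σ) (1 : A)) h
    simp only [vec, mul_assoc, AddMonoidAlgebra.single_mul_single, one_mul] at h2
    rwa [show -(k • ezZ σ) + (k • ezZ σ + k' • ezZ σ) = k' • ezZ σ by abel,
      show -(k' • ezZ σ) + (k • ezZ σ + k' • ezZ σ) = k • ezZ σ by abel] at h2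
  · refine (hu (k • ezZ σ + k' • ezZ σ)).mul_right_cancel ?_
    simp only [vec, mul_assoc, AddMonoidAlgebra.single_mul_single, one_mul]
    rwa [show -(k • ezZ σ) + (k • ezZ σ + k' • ezZ σ) = k' • ezZ σ by abel,
      show -(k' • ezZ σ) + (k • ezZ σ + k' • ezZ σ) = k • ezZ σ by abel]

lemma vec_mem {i : ℕ} (σ : Fin (p + 1) → Fin (n + 1)) (k : ℕ) (a : CohB1.polyGrading n A i)
    (h : (i : ℤ) = (k * (p + 1) : ℕ) + d) :
    (vec A σ k a.1).coeff ∈ Finsupp.supported A A (cell d σ) := by
  classical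
  rw [Finsupp.mem_supported']
  intro m hm
  by_contra hne
  rw [vec, AddMonoidAlgebra.coeff_mul_single_eq_coeff_mul (m + k • ezZ σ) (fun m' _ => by
    constructor <;> intro h' <;> [rw [← h']; rw [h']] <;> abel), mul_one] at hne
  obtain ⟨s, hs, hsm⟩ : ∃ s, MvPolynomial.coeff s a.1 ≠ 0 ∧
      Finsupp.mapRange.addMonoidHom (Nat.castAddMonoidHom ℤ) s = m + k • ezZ σ := by
    by_contra hno
    push Not at hno
    refine hne ?_
    change (Finsupp.mapDomain _ (AddMonoidAlgebra.coeff a.1)) _ = 0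
    rw [← Finsupp.notMem_support_iff]
    intro hmem
    obtain ⟨s, hs, hsm⟩ := Finset.mem_image.1 (Finsupp.mapDomain_support hmem)
    exact hno s (Finsupp.mem_support_iff.1 hs) hsm
  have hdeg : s.degree = i := by
    by_contra hc
    exact hs (MvPolynomial.IsHomogeneous.coeff_eq_zero a.2 hc)
  have happ : ∀ j, m j = (s j : ℤ) - k * (ez σ j : ℤ) := fun j => by
    have := congrArg (fun f : Fin (n + 1) →₀ ℤ => f j) hsm
    simp [ezZ] at this
    omega
  refine hm ⟨?_, fun j hj => (ez_apply_pos n σ j).1 (Nat.one_le_iff_ne_zero.2 fun h0 => ?_)⟩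
  · have h1 := degree_ez n σ
    rw [Finsupp.degree_eq_sum] at h1 hdeg
    simp only [deg, happ, Finset.sum_sub_distrib, ← Finset.mul_sum, ← Nat.cast_sum, hdeg, h1]
    push_cast at h ⊢
    linarith
  · rw [happ, h0] at hj
    omega

lemma exists_vec_eq (σ : Fin (p + 1) → Fin (n + 1))
    (v : Finsupp.supported A A (cell (ι := Fin (n + 1)) d σ)) :
    ∃ (i k : ℕ) (a : CohB1.polyGrading n A i) (_ : (i : ℤ) = (k * (p + 1) : ℕ) + d),
      (vec A σ k a.1).coeff = v.1 := by
  classical
  let k : ℕ := d.natAbs + v.1.support.sup (fun m => Finset.univ.sup fun j => (- m j).toNat)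
  let i : ℕ := (((k * (p + 1) : ℕ) : ℤ) + d).toNat
  have hi : (i : ℤ) = (k * (p + 1) : ℕ) + d := by
    refine Int.toNat_of_nonneg ?_
    have : d.natAbs ≤ k * (p + 1) := (Nat.le_add_right _ _).trans (Nat.le_mul_of_pos_right k p.succ_pos)
    omega
  have hnn : ∀ m ∈ v.1.support, ∀ j, 0 ≤ m j + k * (ez σ j : ℤ) := by
    intro m hm j
    by_cases hj : m j < 0
    · have h1 : (-m j).toNat ≤ k := le_add_left ((Finset.le_sup (f := fun j => (-m j).toNat)
        (Finset.mem_univ j)).trans (Finset.le_sup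
          (f := fun m => Finset.univ.sup fun j => (- m j).toNat) hm))
      have h2 : 1 ≤ ez σ j := (ez_apply_pos n σ j).2 ((v.2 hm).2 j hj)
      have h3 : k ≤ k * ez σ j := Nat.le_mul_of_pos_right k h2
      have h4 : (k : ℤ) ≤ k * (ez σ j : ℤ) := by exact_mod_cast h3
      omega
    · have : 0 ≤ (k : ℤ) * (ez σ j : ℤ) := by positivity
      omega
  let sm : (Fin (n + 1) →₀ ℤ) → (Fin (n + 1) →₀ ℕ) := fun m =>
    Finsupp.equivFunOnFinite.symm fun j => (m j + k * (ez σ j : ℤ)).toNat
  let a : MvPolynomial (Fin (n + 1)) A := ∑ m ∈ v.1.support, MvPolynomial.monomial (sm m) (v.1 m)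
  have ha : a ∈ CohB1.polyGrading n A i := by
    refine Submodule.sum_mem _ fun m hm => MvPolynomial.isHomogeneous_monomial _ ?_
    have h2 : ((sm m).degree : ℤ) = i := by
      rw [Finsupp.degree_eq_sum]
      push_cast
      simp only [sm, Finsupp.coe_equivFunOnFinite_symm]
      rw [Finset.sum_congr rfl fun j _ => Int.toNat_of_nonneg (hnn m hm j)]
      have h1 := degree_ez n σ
      rw [Finsupp.degree_eq_sum] at h1
      rw [Finset.sum_add_distrib, ← Finset.mul_sum, ← Nat.cast_sum, h1]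
      have := (v.2 hm).1
      rw [deg] at this
      rw [this, hi]
      push_cast
      ring
    exact_mod_cast h2
  refine ⟨i, k, ⟨a, ha⟩, hi, ?_⟩
  have : vec A σ k a = ∑ m ∈ v.1.support, AddMonoidAlgebra.single m (v.1 m) := by
    rw [vec, map_sum, Finset.sum_mul]
    refine Finset.sum_congr rfl fun m hm => ?_
    rw [toL_monomial, AddMonoidAlgebra.single_mul_single, mul_one]
    congr 1
    ext j
    simp [sm, ezZ, hnn m hm j]
  rw [this, AddMonoidAlgebra.coeff_sum]
  exact v.1.sum_single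

/-- The sections of `O(d)` over the open of a tuple. -/
abbrev Sect (σ : Fin (p + 1) → Fin (n + 1)) : Type u :=
  Twist.sectN (𝒜 := CohB1.polyGrading n A) d (op (Dp n A σ))

lemma exists_rep (σ : Fin (p + 1) → Fin (n + 1)) (s : Sect n A d σ) :
    ∃ (i k : ℕ) (a : CohB1.polyGrading n A i) (h : (i : ℤ) = (k * (p + 1) : ℕ) + d),
      s = frac (mon_mem n A σ) d k a h :=
  exists_frac_eq (mon_mem n A σ) p.succ_pos (degUnit n A d σ) s

/-- The Laurent polynomial of a section. -/
def toVec (σ : Fin (p + 1) → Fin (n + 1)) (s : Sect n A d σ) :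
    Finsupp.supported A A (cell (ι := Fin (n + 1)) d σ) :=
  ⟨(vec A σ (exists_rep n A d σ s).choose_spec.choose
      (exists_rep n A d σ s).choose_spec.choose_spec.choose.1).coeff,
    vec_mem n A d σ _ _ (exists_rep n A d σ s).choose_spec.choose_spec.choose_spec.choose⟩

lemma toVec_frac {i : ℕ} (σ : Fin (p + 1) → Fin (n + 1)) (k : ℕ) (a : CohB1.polyGrading n A i)
    (h : (i : ℤ) = (k * (p + 1) : ℕ) + d) :
    (toVec n A d σ (frac (mon_mem n A σ) d k a h) : _ →₀ A) = (vec A σ k a.1).coeff := by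
  have hs := (exists_rep n A d σ (frac (mon_mem n A σ) d k a h)).choose_spec.choose_spec
    |>.choose_spec.choose_spec
  rw [frac_eq_iff (mon_mem n A σ) (mon_mem_nonZeroDivisors n A σ) p.succ_pos,
    ← vec_eq_vec_iff] at hs
  exact congrArg AddMonoidAlgebra.coeff hs.symm

lemma toVec_bijective (σ : Fin (p + 1) → Fin (n + 1)) : Function.Bijective (toVec n A d σ) := by
  constructor
  · intro s t hst
    obtain ⟨i, k, a, h, rfl⟩ := exists_rep n A d σ s
    obtain ⟨i', k', a', h', rfl⟩ := exists_rep n A d σ t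
    have := congrArg Subtype.val hst
    rw [toVec_frac, toVec_frac, AddMonoidAlgebra.coeff_inj, vec_eq_vec_iff] at this
    exact (frac_eq_iff _ (mon_mem_nonZeroDivisors n A σ) p.succ_pos _ _ _ _ _ _).2 this
  · intro v
    obtain ⟨i, k, a, h, hv⟩ := exists_vec_eq n A d σ v
    exact ⟨frac (mon_mem n A σ) d k a h, Subtype.ext ((toVec_frac n A d σ k a h).trans hv)⟩

/-- Moving a representation to a higher denominator. -/
lemma frac_shift {i : ℕ} (σ : Fin (p + 1) → Fin (n + 1)) (k l : ℕ) (a : CohB1.polyGrading n A i)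
    (h : (i : ℤ) = (k * (p + 1) : ℕ) + d) :
    frac (mon_mem n A σ) d k a h = frac (mon_mem n A σ) d (k + l)
      (⟨a.1 * mon A σ ^ l, SetLike.mul_mem_graded a.2
        (by simpa using SetLike.pow_mem_graded l (mon_mem n A σ))⟩ :
          CohB1.polyGrading n A (i + l * (p + 1)))
      (by push_cast at h ⊢; linarith) := by
  rw [frac_eq_iff _ (mon_mem_nonZeroDivisors n A σ) p.succ_pos]
  simp [pow_add]; ring

lemma toVec_add (σ : Fin (p + 1) → Fin (n + 1)) (s t : Sect n A d σ) :
    toVec n A d σ (s + t) = toVec n A d σ s + toVec n A d σ t := by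
  obtain ⟨i, k, a, h, rfl⟩ := exists_rep n A d σ s
  obtain ⟨i', k', a', h', rfl⟩ := exists_rep n A d σ t
  have hk : i' + k * (p + 1) = i + k' * (p + 1) := by push_cast at h h'; nlinarith
  obtain ⟨j, hj⟩ : ∃ j, j = i + k' * (p + 1) := ⟨_, rfl⟩
  have e1 := frac_shift n A d σ k k' a h
  have e2 := frac_shift n A d σ k' k a' h'
  let b : CohB1.polyGrading n A j := ⟨a.1 * mon A σ ^ k', hj ▸ SetLike.mul_mem_graded a.2
    (by simpa using SetLike.pow_mem_graded k' (mon_mem n A σ))⟩
  let b' : CohB1.polyGrading n A j := ⟨a'.1 * mon A σ ^ k, (hj.trans hk.symm) ▸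
    SetLike.mul_mem_graded a'.2 (by simpa using SetLike.pow_mem_graded k (mon_mem n A σ))⟩
  have hb : (j : ℤ) = ((k + k') * (p + 1) : ℕ) + d := by subst hj; push_cast at h ⊢; linarith
  have e1' : frac (mon_mem n A σ) d k a h = frac (mon_mem n A σ) d (k + k') b hb := by
    rw [frac_eq_iff _ (mon_mem_nonZeroDivisors n A σ) p.succ_pos]
    simp [b, pow_add]; ring
  have e2' : frac (mon_mem n A σ) d k' a' h' = frac (mon_mem n A σ) d (k + k') b' hb := by
    rw [frac_eq_iff _ (mon_mem_nonZeroDivisors n A σ) p.succ_pos]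
    simp [b', pow_add]; ring
  refine Subtype.ext ?_
  rw [e1', e2', frac_add_frac, Submodule.coe_add, toVec_frac, toVec_frac, toVec_frac,
    ← AddMonoidAlgebra.coeff_add]
  simp [vec, add_mul]

variable {n} in
/-- Sections over a standard open vs Laurent polynomials. -/
def secEquiv (σ : Fin (p + 1) → Fin (n + 1)) :
    Sect n A d σ ≃+ Finsupp.supported A A (cell (ι := Fin (n + 1)) d σ) :=
  AddEquiv.ofBijective (AddMonoidHom.mk' (toVec n A d σ) (toVec_add n A d σ))
    (toVec_bijective n A d σ)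

/-- Restriction does not change the Laurent polynomial. -/
lemma secEquiv_res (τ : Fin (q + 1) → Fin (n + 1)) (g : Fin (p + 1) → Fin (q + 1))
    (s : Sect n A d (τ ∘ g)) :
    (secEquiv A d τ (Twist.resN d (homOfLE (Dp_comp_le n A τ g)).op s)).1 =
      (secEquiv A d (τ ∘ g) s).1 := by
  obtain ⟨i, k, a, h, rfl⟩ := exists_rep n A d (τ ∘ g) s
  have hle : k • ez (τ ∘ g) ≤ (k * (p + 1)) • ez τ := by
    intro j
    simp only [Finsupp.smul_apply, smul_eq_mul, mul_assoc]
    refine Nat.mul_le_mul_left _ ?_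
    rcases Nat.eq_zero_or_pos (ez τ j) with h0 | h0
    · have : ¬ 1 ≤ ez (τ ∘ g) j := fun h1 => by
        rw [ez_apply_pos] at h1
        have := (ez_apply_pos n τ j).2 (Set.range_comp_subset_range g τ h1)
        omega
      omega
    · refine le_trans ?_ (Nat.le_mul_of_pos_right (p + 1) h0)
      exact (Finset.single_le_sum (f := fun j => ez (τ ∘ g) j) (fun _ _ => Nat.zero_le _)
        (Finset.mem_univ j)).trans ((Finsupp.degree_eq_sum _).symm.trans (degree_ez n _)).le
  let N := k * (p + 1)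
  let e' := N • ez τ - k • ez (τ ∘ g)
  have he' : e' + k • ez (τ ∘ g) = N • ez τ := tsub_add_cancel_of_le hle
  have hmem : a.1 * MvPolynomial.monomial e' 1 ∈ CohB1.polyGrading n A (i + e'.degree) :=
    SetLike.mul_mem_graded a.2 (MvPolynomial.isHomogeneous_monomial _ rfl)
  have hdeg : ((i + e'.degree : ℕ) : ℤ) = (N * (q + 1) : ℕ) + d := by
    have h2 := congrArg Finsupp.degree he'
    simp only [map_add, map_nsmul, degree_ez, smul_eq_mul] at h2
    push_cast at h ⊢
    have h3 : ((e'.degree : ℤ) + k * (p + 1) = N * (q + 1)) := by exact_mod_cast h2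
    linarith
  have hres : Twist.resN d (homOfLE (Dp_comp_le n A τ g)).op (frac (mon_mem n A (τ ∘ g)) d k a h)
      = frac (mon_mem n A τ) d N ⟨_, hmem⟩ hdeg := by
    refine Subtype.ext (funext fun x => Subtype.ext ?_)
    change (Localization.mk _ _ : Twist.Loc _ x.1) = Localization.mk _ _
    rw [Localization.mk_eq_mk_iff, Localization.r_iff_exists]
    refine ⟨1, ?_⟩
    simp only [OneMemClass.coe_one, one_mul, mon_eq, MvPolynomial.monomial_pow, one_pow, ← he']
    rw [mul_comm (a.1) _, ← mul_assoc, MvPolynomial.monomial_mul, mul_one (1 : A),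
      add_comm (k • ez (τ ∘ g)) e']
  have e1 : (secEquiv A d (τ ∘ g) (frac (mon_mem n A (τ ∘ g)) d k a h)).1 =
      (vec A (τ ∘ g) k a.1).coeff := toVec_frac n A d _ k a h
  have e2 : (secEquiv A d τ (frac (mon_mem n A τ) d N ⟨_, hmem⟩ hdeg)).1 =
      (vec A τ N (a.1 * MvPolynomial.monomial e' 1)).coeff := toVec_frac n A d _ N ⟨_, hmem⟩ hdeg
  rw [hres, e1, e2]
  congr 1
  simp only [vec, map_mul, toL_monomial, mul_assoc, AddMonoidAlgebra.single_mul_single, mul_one]
  congr 2
  simp only [ezZ, ← map_nsmul]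
  rw [← he', map_add]
  abel

/-- A scalar as a function on a standard open. -/
def scal (σ : Fin (p + 1) → Fin (n + 1)) (r : A) :
    Twist.O (𝒜 := CohB1.polyGrading n A) (op (Dp n A σ)) :=
  Coh.resTop (CohB1.ProjSpace n A) (op (Dp n A σ)) (Coh.toGlobal (CohB1.ProjSpace.toSpec n A) r)

/-- Compatibility with scalars from the base ring. -/
lemma secEquiv_smul (σ : Fin (p + 1) → Fin (n + 1)) (r : A) (s : Sect n A d σ) :
    secEquiv A d σ (scal n A σ r • s) =
      r • secEquiv A d σ s := by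
  obtain ⟨i, k, a, h, rfl⟩ := exists_rep n A d σ s
  have hfr : (scal n A σ r • frac (mon_mem n A σ) d k a h) = frac (mon_mem n A σ) d k (r • a) h := by
    refine Subtype.ext (funext fun x => Subtype.ext ?_)
    refine (Twist.coe_smul_val d x.1 _ _).trans ?_
    erw [toGlobal_apply n A r x.1]
    change Localization.mk _ _ * Localization.mk _ _ = Localization.mk _ _
    rw [Localization.mk_mul, one_mul, Submodule.coe_smul, MvPolynomial.smul_eq_C_mul]
  refine Subtype.ext ?_
  rw [hfr]
  change (toVec n A d σ _).1 = r • (toVec n A d σ _).1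
  rw [toVec_frac, toVec_frac, Submodule.coe_smul, vec, map_smul, smul_mul_assoc]
  rfl

end Groth.Agent.Pn71
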