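import Groth.Agent.Coh69.Cech
import Groth.Agent.Pn71.PolySections

/-! The Čech cochains of `O(d)` for the standard cover of projective space. -/

open CategoryTheory AlgebraicGeometry TopologicalSpace Opposite

universe u

set_option maxSynthPendingDepth 6
set_option maxHeartbeats 400000
set_option synthInstance.maxHeartbeats 100000

noncomputable section

namespace Groth.Agent.Pn71

variable (n : ℕ) (A : Type u) [CommRing A] (d : ℤ) {p : ℕ}

/-- The standard affine cover. -/
def stdU (i : ULift.{u} (Fin (n + 1))) : (CohB1.ProjSpace n A).Opens :=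
  ProjectiveSpectrum.basicOpen (CohB1.polyGrading n A) (MvPolynomial.X i.down)

/-- The abelian presheaf of `O(d)`. -/
abbrev twP : (Opens (CohB1.ProjSpace n A))ᵒᵖ ⥤ AddCommGrpCat.{u} :=
  (Twist.twistProjSpace n A d).presheaf

variable {n} in
/-- Indices in `ULift`. -/
abbrev up {m : ℕ} (σ : Fin m → Fin (n + 1)) : Fin m → ULift.{u} (Fin (n + 1)) := ULift.up ∘ σ

variable {n} in
/-- The standard open of a tuple, as an open of projective space. -/
def DP (σ : Fin (p + 1) → Fin (n + 1)) : (CohB1.ProjSpace n A).Opens := Dp n A σ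

variable {n} in
lemma cOpen_stdU (σ : Fin (p + 1) → Fin (n + 1)) :
    Coh69.cOpen (stdU n A) (up σ) = DP A σ :=
  (Coh69.cOpen_eq_iInf (stdU n A) (up σ)).trans (Dp_eq_iInf n A σ).symm

/-- Restriction along an equality of opens. -/
def resEquiv {X : TopCat.{u}} (P : (Opens X)ᵒᵖ ⥤ AddCommGrpCat.{u}) {V W : Opens X} (h : V = W) :
    P.obj (op V) ≃+ P.obj (op W) where
  toFun := Coh69.res P h.ge
  invFun := Coh69.res P h.le
  left_inv s := by rw [Coh69.res_res, Coh69.res_self]
  right_inv s := by rw [Coh69.res_res, Coh69.res_self]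
  map_add' s t := map_add _ s t

lemma resEquiv_apply {X : TopCat.{u}} (P : (Opens X)ᵒᵖ ⥤ AddCommGrpCat.{u}) {V W : Opens X}
    (h : V = W) (s : P.obj (op V)) : resEquiv P h s = Coh69.res P h.ge s := rfl

/-- Sections over `DP` are the sections of the model. -/
def sectId (σ : Fin (p + 1) → Fin (n + 1)) : (twP n A d).obj (op (DP A σ)) ≃+ Sect n A d σ :=
  AddEquiv.refl _

/-- A cochain component as a section over `Dp`. -/
def compEquiv (σ : Fin (p + 1) → Fin (n + 1)) :
    (twP n A d).obj (op (Coh69.cOpen (stdU n A) (up σ))) ≃+ Sect n A d σ :=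
  (resEquiv (twP n A d) (cOpen_stdU A σ)).trans (sectId n A d σ)

/-- Componentwise equivalence of families indexed by lifted tuples. -/
def piEquiv {k : ℕ} {ι : Type} {V : Type u} [AddCommGroup V] [Module A V]
    {M : (Fin k → ULift.{u} ι) → Type u} [∀ i, AddCommGroup (M i)]
    {S : (Fin k → ι) → Submodule A V} (e : ∀ σ : Fin k → ι, M (ULift.up ∘ σ) ≃+ S σ) :
    (∀ i, M i) ≃+ Submodule.pi (Set.univ : Set (Fin k → ι)) S where
  toFun c := ⟨fun σ => (e σ (c (ULift.up ∘ σ))).1,
    Submodule.mem_pi.2 fun σ _ => (e σ (c (ULift.up ∘ σ))).2⟩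
  invFun z i := (e (ULift.down ∘ i)).symm ⟨z.1 (ULift.down ∘ i), Submodule.mem_pi.1 z.2 _ trivial⟩
  left_inv c := funext fun i => (e (ULift.down ∘ i)).symm_apply_apply (c i)
  right_inv z := Subtype.ext <| funext fun σ =>
    congrArg Subtype.val ((e σ).apply_symm_apply ⟨z.1 σ, Submodule.mem_pi.1 z.2 _ trivial⟩)
  map_add' c c' := Subtype.ext <| funext fun σ =>
    congrArg Subtype.val (map_add (e σ) (c (ULift.up ∘ σ)) (c' (ULift.up ∘ σ)))

/-- Laurent coordinates of one component. -/
def coord (σ : Fin (p + 1) → Fin (n + 1)) :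
    (twP n A d).obj (op (Coh69.cOpen (stdU n A) (up σ))) ≃+
      Finsupp.supported A A (cell (ι := Fin (n + 1)) d σ) :=
  (compEquiv n A d σ).trans (secEquiv A d σ)

/-- Laurent coordinates of a cochain. -/
def cochainEquiv (p : ℕ) :
    Coh69.Cochain (stdU n A) (twP n A d) p ≃+ Cochain A (Fin (n + 1)) d p :=
  piEquiv A (M := fun i => (twP n A d).obj (op (Coh69.cOpen (stdU n A) i))) (coord n A d)

lemma cochainEquiv_apply (c : Coh69.Cochain (stdU n A) (twP n A d) p)
    (σ : Fin (p + 1) → Fin (n + 1)) :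
    (cochainEquiv n A d p c).1 σ = (secEquiv A d σ (compEquiv n A d σ (c (up σ)))).1 := rfl

lemma cochainEquiv_cd (c : Coh69.Cochain (stdU n A) (twP n A d) p) :
    (cochainEquiv n A d (p + 1) (Coh69.cd (stdU n A) (twP n A d) p c)).1 =
      dd (cochainEquiv n A d p c).1 := by
  funext τ
  let L : (twP n A d).obj (op (Coh69.cOpen (stdU n A) (up τ))) →+
      (Fin (n + 1) →₀ ℤ) →₀ A :=
    (Finsupp.supported A A (cell d τ)).subtype.toAddMonoidHom.comp
      ((secEquiv A d τ).toAddMonoidHom.comp (compEquiv n A d τ).toAddMonoidHom)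
  rw [cochainEquiv_apply, Coh69.cd_apply]
  change L (∑ j : Fin (p + 2), _) = _
  rw [map_sum]
  refine Finset.sum_congr rfl fun j _ => ?_
  rw [map_zsmul]
  congr 1
  rw [cochainEquiv_apply, ← secEquiv_res n A d τ j.succAbove]
  change (secEquiv A d τ _).1 = (secEquiv A d τ _).1
  congr 2

/-- Cocycles correspond. -/
lemma cd_eq_zero_iff (c : Coh69.Cochain (stdU n A) (twP n A d) p) :
    Coh69.cd (stdU n A) (twP n A d) p c = 0 ↔
      (cochainEquiv n A d p c).1 ∈ cocycles A (Fin (n + 1)) d p := by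
  constructor
  · intro h
    refine ⟨(cochainEquiv n A d p c).2, ?_⟩
    rw [SetLike.mem_coe, LinearMap.mem_ker, dLin_apply, ← cochainEquiv_cd, h, map_zero]
    rfl
  · intro h
    have h2 : dLin A (Fin (n + 1)) p (cochainEquiv n A d p c).1 = 0 := LinearMap.mem_ker.1 h.2
    rw [dLin_apply, ← cochainEquiv_cd] at h2
    exact (cochainEquiv n A d (p + 1)).map_eq_zero_iff.1 (Subtype.ext h2)

/-- Coboundaries correspond. -/
lemma exists_cd_eq_iff (c : Coh69.Cochain (stdU n A) (twP n A d) (p + 1)) :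
    (∃ b, Coh69.cd (stdU n A) (twP n A d) p b = c) ↔
      (cochainEquiv n A d (p + 1) c).1 ∈ coboundaries A (Fin (n + 1)) d (p + 1) := by
  constructor
  · rintro ⟨b, rfl⟩
    exact ⟨_, (cochainEquiv n A d p b).2, by rw [dLin_apply, cochainEquiv_cd]⟩
  · rintro ⟨z, hz, hzc⟩
    refine ⟨(cochainEquiv n A d p).symm ⟨z, hz⟩, (cochainEquiv n A d (p + 1)).injective
      (Subtype.ext ?_)⟩
    rw [cochainEquiv_cd, AddEquiv.apply_symm_apply, ← hzc, dLin_apply]

/-- The Čech complex of `O(d)` is exact strictly between the ends. -/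
theorem cd_exact_of_lt (hp : p + 1 < n) (c : Coh69.Cochain (stdU n A) (twP n A d) (p + 1))
    (hc : Coh69.cd (stdU n A) (twP n A d) (p + 1) c = 0) :
    ∃ b, Coh69.cd (stdU n A) (twP n A d) p b = c := by
  have hz := (cd_eq_zero_iff n A d c).1 hc
  have hd : dd (cochainEquiv n A d (p + 1) c).1 = 0 := by
    have := LinearMap.mem_ker.1 hz.2
    rwa [dLin_apply] at this
  obtain ⟨b, hb, hbc⟩ := exists_dd_eq _ hz.1 hd fun σ m hm =>
    apply_eq_zero_of_allNeg (by simp only [Fintype.card_fin]; omega) _ hz.1 σ m hm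
  exact (exists_cd_eq_iff n A d c).2 ⟨b, hb, by rw [dLin_apply, hbc]⟩

/-- Scaling a cochain by a scalar from the base ring. -/
lemma cochainEquiv_smul (r : A) (c : Coh69.Cochain (stdU n A) (twP n A d) p) :
    cochainEquiv n A d p (Coh69.cmap (stdU n A)
      (Coh.smulAb (Twist.twistProjSpace n A d)
        (Coh.toGlobal (CohB1.ProjSpace.toSpec n A) r)).hom p c) =
      r • cochainEquiv n A d p c := by
  refine Subtype.ext (funext fun σ => ?_)
  change (secEquiv A d σ _).1 = r • (secEquiv A d σ (compEquiv n A d σ (c (up σ)))).1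
  rw [← Submodule.coe_smul, ← secEquiv_smul]
  congr 2

end Groth.Agent.Pn71
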