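import Groth.Agent.Pn71.Simplex
import Mathlib.LinearAlgebra.Finsupp.Supported
import Mathlib.LinearAlgebra.Isomorphisms
import Mathlib.Algebra.Module.Submodule.Map
import Mathlib.Algebra.BigOperators.Pi
import Mathlib.Data.Finsupp.Defs
import Mathlib.Data.Int.Interval

/-! The Čech complex of Laurent monomials of a fixed degree. -/

noncomputable section

set_option maxSynthPendingDepth 6

namespace Groth.Agent.Pn71

variable {ι : Type*} [Fintype ι] {A : Type*} [CommRing A]

/-- Total degree of an exponent vector. -/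
def deg (m : ι →₀ ℤ) : ℤ := ∑ i, m i

/-- Exponents of degree `d` with poles only along the vertices of `σ`. -/
def cell (d : ℤ) {α : Type*} (σ : α → ι) : Set (ι →₀ ℤ) :=
  {m | deg m = d ∧ ∀ i, m i < 0 → i ∈ Set.range σ}

/-- Exponents of degree `d` without poles. -/
def posCell (d : ℤ) : Set (ι →₀ ℤ) := {m | deg m = d ∧ ∀ i, 0 ≤ m i}

/-- Exponents of degree `d` with poles everywhere. -/
def negCell (d : ℤ) : Set (ι →₀ ℤ) := {m | deg m = d ∧ ∀ i, m i < 0}

lemma finite_negCell (d : ℤ) : (negCell (ι := ι) d).Finite := by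
  classical
  refine (Set.Finite.pi' (fun _ : ι => Set.finite_Icc d (-1))).preimage
    (DFunLike.coe_injective.injOn) |>.subset fun m hm i => ⟨?_, by have := hm.2 i; omega⟩
  have : deg m ≤ m i := by
    rw [deg, ← Finset.add_sum_erase _ _ (Finset.mem_univ i)]
    have : ∑ j ∈ Finset.univ.erase i, m j ≤ 0 := Finset.sum_nonpos fun j _ => (hm.2 j).le
    omega
  have := hm.1
  omega

lemma finite_posCell (d : ℤ) : (posCell (ι := ι) d).Finite := by
  classical
  refine (Set.Finite.pi' (fun _ : ι => Set.finite_Icc 0 d)).preimage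
    (DFunLike.coe_injective.injOn) |>.subset fun m hm i => ⟨hm.2 i, ?_⟩
  rw [← hm.1]
  exact Finset.single_le_sum (fun j _ => hm.2 j) (Finset.mem_univ i)

variable (A) in
/-- Čech cochains of Laurent monomials. -/
def Cochain (ι : Type*) [Fintype ι] (d : ℤ) (p : ℕ) :
    Submodule A ((Fin (p + 1) → ι) → (ι →₀ ℤ) →₀ A) :=
  Submodule.pi Set.univ fun σ => Finsupp.supported A A (cell d σ)

lemma mem_cochain {d : ℤ} {p : ℕ} {c : (Fin (p + 1) → ι) → (ι →₀ ℤ) →₀ A} :
    c ∈ Cochain A ι d p ↔ ∀ σ m, c σ m ≠ 0 → m ∈ cell d σ := by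
  simp [Cochain, Submodule.mem_pi, Finsupp.mem_supported', not_imp_comm]

variable (A) in
/-- `dd` as a linear map. -/
def dLin (ι : Type*) (p : ℕ) :
    ((Fin (p + 1) → ι) → (ι →₀ ℤ) →₀ A) →ₗ[A] ((Fin (p + 2) → ι) → (ι →₀ ℤ) →₀ A) :=
  LinearMap.pi fun τ => ∑ i : Fin (p + 2), ((-1 : ℤ) ^ (i : ℕ)) • LinearMap.proj (τ ∘ i.succAbove)

omit [Fintype ι] in
@[simp] lemma dLin_apply {p : ℕ} (c : (Fin (p + 1) → ι) → (ι →₀ ℤ) →₀ A) :
    dLin A ι p c = dd c := by
  funext τ; simp [dLin, dd]

omit [Fintype ι] in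
lemma dd_apply {p : ℕ} (c : (Fin (p + 1) → ι) → (ι →₀ ℤ) →₀ A) (τ : Fin (p + 2) → ι)
    (m : ι →₀ ℤ) : dd c τ m = dd (fun σ => c σ m) τ :=
  map_dd (Finsupp.applyAddHom m) c τ

variable (A) in
/-- Cocycles. -/
def cocycles (ι : Type*) [Fintype ι] (d : ℤ) (p : ℕ) :
    Submodule A ((Fin (p + 1) → ι) → (ι →₀ ℤ) →₀ A) :=
  Cochain A ι d p ⊓ LinearMap.ker (dLin A ι p)

variable (A) in
/-- Coboundaries. -/
def coboundaries (ι : Type*) [Fintype ι] (d : ℤ) :
    ∀ p : ℕ, Submodule A ((Fin (p + 1) → ι) → (ι →₀ ℤ) →₀ A)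
  | 0 => ⊥
  | p + 1 => (Cochain A ι d p).map (dLin A ι p)

lemma cell_mono {d : ℤ} {α β : Type*} (τ : α → ι) (f : β → α) : cell d (τ ∘ f) ⊆ cell d τ :=
  fun _ hm => ⟨hm.1, fun i hi => Set.range_comp_subset_range f τ (hm.2 i hi)⟩

lemma dd_mem_cochain {d : ℤ} {p : ℕ} {c : (Fin (p + 1) → ι) → (ι →₀ ℤ) →₀ A}
    (hc : c ∈ Cochain A ι d p) : dd c ∈ Cochain A ι d (p + 1) := by
  refine Submodule.mem_pi.2 fun τ _ => ?_
  refine Submodule.sum_mem _ fun i _ => ?_
  exact Submodule.smul_of_tower_mem _ _ (Finsupp.supported_mono (cell_mono τ i.succAbove)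
    (Submodule.mem_pi.1 hc _ trivial))

open Classical in
/-- Every cocycle without a component with poles everywhere is a coboundary. -/
theorem exists_dd_eq {d : ℤ} {p : ℕ} (c : (Fin (p + 2) → ι) → (ι →₀ ℤ) →₀ A)
    (hc : c ∈ Cochain A ι d (p + 1)) (hd : dd c = 0)
    (hneg : ∀ σ m, (∀ i, m i < 0) → c σ m = 0) :
    ∃ b ∈ Cochain A ι d p, dd b = c := by
  let f : (Fin (p + 1) → ι) → (ι →₀ ℤ) → A := fun τ m =>
    if h : ∃ j, ¬ m j < 0 then c (Fin.cons h.choose τ) m else 0
  let b : (Fin (p + 1) → ι) → (ι →₀ ℤ) →₀ A := fun τ =>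
    Finsupp.onFinset (Finset.univ.biUnion fun j => (c (Fin.cons j τ)).support) (f τ) fun m hm => by
      simp only [f] at hm
      split_ifs at hm with h
      · exact Finset.mem_biUnion.2 ⟨h.choose, Finset.mem_univ _, Finsupp.mem_support_iff.2 hm⟩
      · exact absurd rfl hm
  refine ⟨b, mem_cochain.2 fun τ m hm => ?_, ?_⟩
  · simp only [b, Finsupp.onFinset_apply, f] at hm
    split_ifs at hm with h
    · have := mem_cochain.1 hc _ m hm
      exact ⟨this.1, fun i hi => range_subset_range_of_cons h.choose τ {k | m k < 0}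
        h.choose_spec (fun k hk => this.2 k hk) hi⟩
    · exact absurd rfl hm
  · funext σ
    ext m
    rw [dd_apply]
    simp only [b, Finsupp.onFinset_apply, f]
    by_cases h : ∃ j, ¬ m j < 0
    · simp only [dif_pos h]
      have h2 := dd_cone_add h.choose (fun σ => c σ m) σ
      rwa [← dd_apply c, hd, Pi.zero_apply, Finsupp.zero_apply, add_zero] at h2
    · simp only [dif_neg h]
      push Not at h
      simp [dd, hneg σ m h]

/-- Cocycles in degree zero are constants without poles. -/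
theorem degree_zero {d : ℤ} (hι : Nontrivial ι) (c : (Fin 1 → ι) → (ι →₀ ℤ) →₀ A)
    (hc : c ∈ Cochain A ι d 0) (hd : dd c = 0) (σ : Fin 1 → ι) (i₀ : ι) :
    c σ = c ![i₀] ∧ c σ ∈ Finsupp.supported A A (posCell d) := by
  have h : ∀ a b, c ![b] = c ![a] := fun a b => by
    have := dd_zero_apply c a b
    rw [hd, Pi.zero_apply] at this
    exact sub_eq_zero.1 this.symm
  have hσ : σ = ![σ 0] := by ext i; fin_cases i; rfl
  rw [hσ]
  refine ⟨h _ _, (Finsupp.mem_supported' _ _).2 fun m hm => by_contra fun hne => hm ?_⟩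
  refine ⟨(mem_cochain.1 hc _ m hne).1, fun i => not_lt.1 fun hi => ?_⟩
  obtain ⟨j, hj⟩ := exists_ne i
  rw [h j] at hne
  obtain ⟨k, hk⟩ := (mem_cochain.1 hc _ m hne).2 i hi
  fin_cases k
  exact hj hk

/-- In degrees below the top one there is nothing with poles everywhere. -/
lemma apply_eq_zero_of_allNeg {d : ℤ} {p : ℕ} (hp : p + 1 < Fintype.card ι)
    (c : (Fin (p + 1) → ι) → (ι →₀ ℤ) →₀ A) (hc : c ∈ Cochain A ι d p)
    (σ : Fin (p + 1) → ι) (m : ι →₀ ℤ) (hm : ∀ i, m i < 0) : c σ m = 0 :=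
  congrFun (eq_zero_of_not_surjective_card hp (fun σ => c σ m) fun σ hs => by_contra fun hne =>
    hs fun i => (mem_cochain.1 hc σ m hne).2 i (hm i)) σ

section Top

variable {d : ℤ} {p : ℕ} (e : Fin (p + 1) ≃ ι)

lemma apply_eq_zero_of_apply_equiv (c : (Fin (p + 1) → ι) → (ι →₀ ℤ) →₀ A)
    (hc : c ∈ Cochain A ι d p) (hd : dd c = 0)
    (m : ι →₀ ℤ) (hm : ∀ i, m i < 0) (he : c e m = 0) (σ : Fin (p + 1) → ι) : c σ m = 0 := by
  refine congrFun (eq_zero_of_apply_equiv (fun σ => c σ m) (fun σ hs => by_contra fun hne =>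
    hs fun i => (mem_cochain.1 hc σ m hne).2 i (hm i)) ?_ e he) σ
  funext τ
  rw [← dd_apply, hd]; rfl

open Classical in
/-- The cocycle attached to a vector supported on `negCell`. -/
def topCocycle (v : (ι →₀ ℤ) →₀ A) : (Fin (p + 1) → ι) → (ι →₀ ℤ) →₀ A :=
  fun σ => (top e σ : A) • v

lemma topCocycle_mem (v : (ι →₀ ℤ) →₀ A) (hv : v ∈ Finsupp.supported A A (negCell d)) :
    topCocycle e v ∈ cocycles A ι d p := by
  classical
  refine ⟨mem_cochain.2 fun σ m hm => ?_, ?_⟩
  · have h1 : v m ≠ 0 := fun h => hm (by simp [topCocycle, h])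
    have h2 := by_contra fun h => h1 ((Finsupp.mem_supported' _ _).1 hv m h)
    refine ⟨h2.1, fun i _ => ?_⟩
    by_contra hi
    exact hm (by simp [topCocycle, top_eq_zero_of_not_surjective e σ fun hs => hi (hs i)])
  · funext τ
    ext m
    rw [dLin_apply, dd_apply, Pi.zero_apply, Finsupp.zero_apply]
    simp only [topCocycle, Finsupp.smul_apply, smul_eq_mul]
    exact ((map_dd (AddMonoidHom.mulRight (v m)) (top e : _ → A) τ).symm.trans
      (by rw [dd_top, map_zero]))

open Classical in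
variable (A) (d) in
/-- Evaluation at `e` of the part with poles everywhere. -/
def topEval : cocycles A ι d p →ₗ[A] Finsupp.supported A A (negCell (ι := ι) d) :=
  (Finsupp.restrictDom A A (negCell (ι := ι) d)).comp
    ((LinearMap.proj (e : Fin (p + 1) → ι)).comp (cocycles A ι d p).subtype)

open Classical in
lemma topEval_apply (z : cocycles A ι d p) (m : ι →₀ ℤ) :
    (topEval A d e z : (ι →₀ ℤ) →₀ A) m = if m ∈ negCell d then z.1 e m else 0 := by
  simp [topEval, Finsupp.restrictDom, Finsupp.filter_apply]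

lemma topEval_surjective : Function.Surjective (topEval (A := A) (d := d) e) := by
  classical
  intro v
  refine ⟨⟨topCocycle e v.1, topCocycle_mem e v.1 v.2⟩, ?_⟩
  ext m
  rw [topEval_apply]
  split_ifs with h
  · simp [topCocycle]
  · exact ((Finsupp.mem_supported' _ _).1 v.2 m h).symm

lemma ker_topEval (h0 : p = 0 → d < 0) : LinearMap.ker (topEval (A := A) (d := d) e) =
    (coboundaries A ι d p).comap (cocycles A ι d p).subtype := by
  classical
  ext z
  rw [LinearMap.mem_ker, Submodule.mem_comap]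
  constructor
  · intro hz
    have hneg : ∀ σ m, (∀ i, m i < 0) → z.1 σ m = 0 := by
      intro σ m hm
      by_contra hne
      have hdeg := (mem_cochain.1 z.2.1 σ m hne).1
      refine hne (apply_eq_zero_of_apply_equiv e z.1 z.2.1 (by simpa using z.2.2) m hm ?_ σ)
      have := congrArg (fun w : Finsupp.supported A A (negCell (ι := ι) d) =>
        (w : (ι →₀ ℤ) →₀ A) m) hz
      rw [topEval_apply, if_pos ⟨hdeg, hm⟩] at this
      exact this
    cases p with
    | zero =>
      suffices z.1 = 0 by simp [coboundaries, this]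
      funext σ
      ext m
      by_contra hne
      refine hne (hneg σ m fun i => ?_)
      haveI : Subsingleton (Fin (0 + 1)) := inferInstanceAs (Subsingleton (Fin 1))
      have hsub : Subsingleton ι := e.symm.injective.subsingleton
      have hdeg := (mem_cochain.1 z.2.1 σ m hne).1
      rw [deg, Fintype.sum_subsingleton _ i] at hdeg
      rw [hdeg]
      exact h0 rfl
    | succ q =>
      obtain ⟨b, hb, hbz⟩ := exists_dd_eq z.1 z.2.1 (by simpa using z.2.2) hneg
      exact ⟨b, hb, by simp [hbz]⟩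
  · intro hz
    cases p with
    | zero =>
      simp [coboundaries] at hz
      simp [hz]
    | succ q =>
      obtain ⟨b, hb, hbz⟩ := hz
      ext m
      rw [topEval_apply]
      split_ifs with h
      · rw [← Submodule.subtype_apply, ← hbz, dLin_apply, dd_apply]
        simp only [dd]
        refine Finset.sum_eq_zero fun i _ => ?_
        rw [apply_eq_zero_of_allNeg (by simp [← Fintype.card_congr e]) b hb _ m h.2, smul_zero]
      · simp

/-- The top Čech cohomology. -/
def topEquiv (h0 : p = 0 → d < 0) : (cocycles A ι d p ⧸ (coboundaries A ι d p).comap (cocycles A ι d p).subtype)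
    ≃ₗ[A] Finsupp.supported A A (negCell (ι := ι) d) :=
  (Submodule.quotEquivOfEq _ _ (ker_topEval e h0).symm).trans
    (LinearMap.quotKerEquivOfSurjective _ (topEval_surjective e))

end Top

section Zero

variable [Nontrivial ι] {d : ℤ}

lemma const_mem_cocycles (v : Finsupp.supported A A (posCell (ι := ι) d)) :
    (fun _ : Fin 1 → ι => (v : (ι →₀ ℤ) →₀ A)) ∈ cocycles A ι d 0 := by
  refine ⟨mem_cochain.2 fun σ m hm => ?_, ?_⟩
  · have h := by_contra fun h => hm ((Finsupp.mem_supported' _ _).1 v.2 m h)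
    exact ⟨h.1, fun i hi => absurd (h.2 i) (not_le.2 hi)⟩
  · funext τ
    simp [dd, Fin.sum_univ_two]

variable (A) (d) in
/-- Degree-zero Čech cohomology. -/
def zeroEquiv (i₀ : ι) :
    cocycles A ι d 0 ≃ₗ[A] Finsupp.supported A A (posCell (ι := ι) d) where
  toFun z := ⟨z.1 ![i₀], (degree_zero inferInstance z.1 z.2.1 (by simpa using z.2.2) _ i₀).2⟩
  map_add' _ _ := rfl
  map_smul' _ _ := rfl
  invFun v := ⟨fun _ => v, const_mem_cocycles v⟩
  left_inv z := Subtype.ext <| funext fun σ =>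
    ((degree_zero inferInstance z.1 z.2.1 (by simpa using z.2.2) σ i₀).1).symm
  right_inv _ := rfl

end Zero

end Groth.Agent.Pn71
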