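import Mathlib.LinearAlgebra.Matrix.Adjugate
import Mathlib.GroupTheory.Perm.Sign
import Mathlib.Data.Fin.Tuple.Basic

/-! Cochains on all tuples of vertices of a finite simplex, relative to supports. -/

namespace Groth.Agent.Pn71

variable {ι : Type*}

/-- The alternating coboundary on cochains indexed by all tuples. -/
def dd {V : Type*} [AddCommGroup V] {p : ℕ} (c : (Fin (p + 1) → ι) → V) (τ : Fin (p + 2) → ι) : V :=
  ∑ i : Fin (p + 2), ((-1 : ℤ) ^ (i : ℕ)) • c (τ ∘ i.succAbove)

lemma dd_sub {V : Type*} [AddCommGroup V] {p : ℕ} (c c' : (Fin (p + 1) → ι) → V) :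
    dd (c - c') = dd c - dd c' := by
  ext τ; simp [dd, smul_sub, Finset.sum_sub_distrib]

lemma map_dd {V W : Type*} [AddCommGroup V] [AddCommGroup W] (φ : V →+ W) {p : ℕ}
    (c : (Fin (p + 1) → ι) → V) (τ : Fin (p + 2) → ι) :
    φ (dd c τ) = dd (fun σ => φ (c σ)) τ := by
  simp [dd]

/-- Cone contraction. -/
lemma dd_cone_add {V : Type*} [AddCommGroup V] {p : ℕ} (j : ι) (c : (Fin (p + 2) → ι) → V)
    (σ : Fin (p + 2) → ι) :
    dd (fun τ : Fin (p + 1) → ι => c (Fin.cons j τ)) σ + dd c (Fin.cons j σ) = c σ := by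
  have h : dd c (Fin.cons j σ) = c σ - dd (fun τ : Fin (p + 1) → ι => c (Fin.cons j τ)) σ := by
    conv_lhs => rw [dd, Fin.sum_univ_succ]
    simp only [Fin.val_zero, pow_zero, one_smul, Fin.val_succ, Fin.succAbove_zero,
      Fin.cons_comp_succ, Fin.cons_comp_succ_succAbove, dd, sub_eq_add_neg,
      ← Finset.sum_neg_distrib, pow_succ, mul_neg_one, neg_smul]
    rfl
  rw [h]; abel

lemma dd_zero_apply {V : Type*} [AddCommGroup V] (c : (Fin 1 → ι) → V) (a b : ι) :
    dd c ![a, b] = c ![b] - c ![a] := by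
  rw [dd, Fin.sum_univ_two]
  have h0 : (![a, b] ∘ (0 : Fin 2).succAbove) = ![b] := by ext i; fin_cases i; rfl
  have h1 : (![a, b] ∘ (1 : Fin 2).succAbove) = ![a] := by ext i; fin_cases i; rfl
  rw [h0, h1]; simp [sub_eq_add_neg]

lemma range_subset_range_of_cons {p : ℕ} (j : ι) (τ : Fin p → ι) (S : Set ι) (hj : j ∉ S)
    (h : S ⊆ Set.range (Fin.cons j τ)) : S ⊆ Set.range τ := by
  intro x hx
  rw [Fin.range_cons] at h
  rcases h hx with rfl | h'
  · exact absurd hx hj
  · exact h'

lemma eq_zero_of_not_surjective_card {V : Type*} [AddCommGroup V] [Fintype ι] {p : ℕ}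
    (hp : p + 1 < Fintype.card ι) (c : (Fin (p + 1) → ι) → V)
    (hc : ∀ σ, ¬ Function.Surjective σ → c σ = 0) : c = 0 := by
  funext σ
  refine hc σ fun hs => ?_
  have := Fintype.card_le_of_surjective σ hs
  simp at this
  omega

section Top

variable {R : Type*} [CommRing R] [DecidableEq ι] {p : ℕ} (e : Fin (p + 1) ≃ ι)

/-- The orientation cocycle. -/
def topMat (σ : Fin (p + 1) → ι) : Matrix (Fin (p + 1)) (Fin (p + 1)) R :=
  fun a b => if σ a = e b then 1 else 0

def top (σ : Fin (p + 1) → ι) : R := (topMat e σ).det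

lemma top_eq_zero_of_not_surjective (σ : Fin (p + 1) → ι) (hσ : ¬ Function.Surjective σ) :
    (top e σ : R) = 0 := by
  rw [Function.Surjective] at hσ
  push Not at hσ
  obtain ⟨x, hx⟩ := hσ
  refine Matrix.det_eq_zero_of_column_eq_zero (e.symm x) fun a => ?_
  simp [topMat, hx a]

@[simp] lemma top_self : (top e e : R) = 1 := by
  have : (topMat e e : Matrix _ _ R) = 1 := by
    ext a b; simp [topMat, Matrix.one_apply]
  simp [top, this]

lemma dd_top (τ : Fin (p + 2) → ι) : dd (top e : _ → R) τ = 0 := by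
  let M : Matrix (Fin (p + 2)) (Fin (p + 2)) R := Matrix.of
    fun a => Fin.cons 1 (fun b => if τ a = e b then 1 else 0)
  have hM : M.det = 0 := by
    let v : Fin (p + 2) → R := Fin.cons 1 (fun _ => -1)
    have hv : M.mulVec v = 0 := by
      funext a
      simp only [Matrix.mulVec, dotProduct, M, v, Matrix.of_apply]
      rw [Fin.sum_univ_succ]
      simp only [Fin.cons_zero, mul_one, Fin.cons_succ, mul_neg, Finset.sum_neg_distrib]
      rw [Finset.sum_eq_single (e.symm (τ a)) (fun b _ hb => if_neg fun h => hb (by simp [h]))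
        (by simp)]
      simp
    have h : M.det • v = 0 := by
      have := congrArg M.adjugate.mulVec hv
      rwa [Matrix.mulVec_mulVec, Matrix.adjugate_mul, Matrix.smul_mulVec, Matrix.one_mulVec,
        Matrix.mulVec_zero] at this
    simpa [v] using congrFun h 0
  rw [Matrix.det_succ_column_zero] at hM
  rw [dd]
  refine Eq.trans (Finset.sum_congr rfl fun i _ => ?_) hM
  simp only [M, Matrix.of_apply, Fin.cons_zero, mul_one, zsmul_eq_mul]
  push_cast
  congr 1

end Top

section TopUnique

variable {V : Type*} [AddCommGroup V] {p : ℕ}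

lemma swap_relation (c : (Fin (p + 1) → ι) → V)
    (hc : ∀ σ, ¬ Function.Surjective σ → c σ = 0) (hd : dd c = 0)
    (σ : Fin (p + 1) → ι) (hσ : Function.Bijective σ) (k : Fin p) :
    c (σ ∘ Equiv.swap k.castSucc k.succ) + c σ = 0 := by
  set a : Fin (p + 2) := k.castSucc.castSucc with ha
  set b : Fin (p + 2) := k.succ.succ with hb
  let τ : Fin (p + 2) → ι := b.insertNth (σ k.castSucc) σ
  have hτb : τ ∘ b.succAbove = σ := Fin.insertNth_comp_succAbove _ _ _
  have hab : a ≠ b := by simp [a, b, Fin.ext_iff]; omega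
  have hτa : τ a = σ k.castSucc := by
    have : b.succAbove k.castSucc = a := by
      rw [Fin.succAbove_of_castSucc_lt]
      simp [b, Fin.lt_def]
    rw [← this]; exact congrFun hτb _
  have hτb' : τ b = σ k.castSucc := Fin.insertNth_apply_same _ _ _
  have ha' : τ ∘ a.succAbove = σ ∘ Equiv.swap k.castSucc k.succ := by
    funext j
    simp only [Function.comp_apply]
    rcases lt_trichotomy (j : ℕ) k with h | h | h
    · have h1 : a.succAbove j = j.castSucc :=
        Fin.succAbove_of_castSucc_lt _ _ (by simpa [a, Fin.lt_def] using h)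
      have h2 : b.succAbove j = j.castSucc :=
        Fin.succAbove_of_castSucc_lt _ _ (by simp [b, Fin.lt_def]; omega)
      rw [Equiv.swap_apply_of_ne_of_ne (by simp [Fin.ext_iff]; omega)
        (by simp [Fin.ext_iff]; omega), h1, ← h2]
      exact congrFun hτb j
    · obtain rfl : j = k.castSucc := Fin.ext h
      have h1 : a.succAbove k.castSucc = b.succAbove k.succ := by
        rw [Fin.succAbove_of_le_castSucc _ _ le_rfl,
          Fin.succAbove_of_castSucc_lt _ _ (by simp [b, Fin.lt_def])]
        simp [Fin.ext_iff]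
      rw [Equiv.swap_apply_left, h1]
      exact congrFun hτb _
    · rw [Fin.succAbove_of_le_castSucc _ _ (by simp [a, Fin.le_def]; omega)]
      rcases eq_or_lt_of_le (Nat.succ_le_of_lt h) with h' | h'
      · obtain rfl : j = k.succ := Fin.ext (by simp [← h'])
        rw [Equiv.swap_apply_right, ← hτb']
      · have h2 : b.succAbove j = j.succ :=
          Fin.succAbove_of_le_castSucc _ _ (by simp [b, Fin.le_def]; omega)
        rw [Equiv.swap_apply_of_ne_of_ne (by simp [Fin.ext_iff]; omega)
          (by simp [Fin.ext_iff]; omega), ← h2]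
        exact congrFun hτb j
  have key : dd c τ = ((-1 : ℤ) ^ (a : ℕ)) • c (τ ∘ a.succAbove) +
      ((-1 : ℤ) ^ (b : ℕ)) • c (τ ∘ b.succAbove) := by
    refine Finset.sum_eq_add a b hab (fun i _ hi => ?_) (by simp) (by simp)
    rw [hc _ ?_, smul_zero]
    intro hs
    obtain ⟨j, hj⟩ := hs (τ i)
    obtain ⟨hia, hib⟩ := hi
    obtain ⟨i', hi'⟩ := Fin.exists_succAbove_eq hib
    rcases eq_or_ne (i.succAbove j) b with e | e
    · rw [Function.comp_apply, e, hτb', ← hτa] at hj
      obtain ⟨a', ha''⟩ := Fin.exists_succAbove_eq hab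
      rw [← ha'', ← hi'] at hj
      have := hσ.1 (((congrFun hτb a').symm.trans hj).trans (congrFun hτb i'))
      exact hia (by rw [← hi', ← ha'', this])
    · obtain ⟨j', hj'⟩ := Fin.exists_succAbove_eq e
      rw [Function.comp_apply, ← hj', ← hi'] at hj
      have := hσ.1 (((congrFun hτb j').symm.trans hj).trans (congrFun hτb i'))
      exact Fin.succAbove_ne i j (by rw [← hj', this, hi'])
  rw [hd, Pi.zero_apply, ha', hτb] at key
  have hpow : ((-1 : ℤ) ^ (b : ℕ)) = (-1) ^ (a : ℕ) := by simp [a, b, pow_succ]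
  rw [hpow, ← smul_add] at key
  rcases neg_one_pow_eq_or ℤ (a : ℕ) with h | h <;> rw [h] at key <;>
    simp only [one_smul, neg_smul, zero_eq_neg] at key <;> exact key.symm ▸ rfl

lemma eq_zero_of_apply_equiv (c : (Fin (p + 1) → ι) → V)
    (hc : ∀ σ, ¬ Function.Surjective σ → c σ = 0) (hd : dd c = 0)
    (e : Fin (p + 1) ≃ ι) (he : c e = 0) : c = 0 := by
  funext σ
  by_cases hσ : Function.Surjective σ
  swap
  · exact hc σ hσ
  have : Fintype ι := Fintype.ofEquiv _ e
  have hb : Function.Bijective σ :=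
    (Fintype.bijective_iff_surjective_and_card σ).2 ⟨hσ, Fintype.card_congr e⟩
  obtain ⟨g, rfl⟩ : ∃ g : Equiv.Perm (Fin (p + 1)), σ = e ∘ g :=
    ⟨(Equiv.ofBijective σ hb).trans e.symm, by funext; simp⟩
  have hg : g ∈ Submonoid.closure
      (Set.range fun i : Fin p ↦ Equiv.swap i.castSucc i.succ) := by
    rw [Equiv.Perm.mclosure_swap_castSucc_succ]; trivial
  clear hσ hb
  induction hg using Submonoid.closure_induction_right with
  | one => exact he
  | mul_right g hg s hs ih =>
    obtain ⟨k, rfl⟩ := hs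
    have := swap_relation c hc hd (e ∘ g) (e.bijective.comp g.bijective) k
    rw [ih, Pi.zero_apply, add_zero] at this
    simpa [Function.comp_def] using this

end TopUnique

end Groth.Agent.Pn71
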